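import Cfsg.Agent.Lib.SpExtDerange.Basic
import Cfsg.Agent.Lib.SpTensorDerange.Basic

/-!
Symplectic frames adapted to an adjoint or anti-adjoint square root of a scalar.
-/

set_option autoImplicit false

namespace Cfsg.Agent.Lib.SpExtDerange

open Matrix

variable {F : Type*} [Field F] {m : ℕ}

local notation "Vs" => (Fin m ⊕ Fin m → F)
local notation "Ms" => Matrix (Fin m ⊕ Fin m) (Fin m ⊕ Fin m) F

/-- Families pairing like the standard basis. -/
def IsPairing {b : ℕ} (v w : Fin b → Vs) : Prop :=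
  (∀ i j, Cfsg.sympForm m F (v i) (v j) = 0) ∧ (∀ i j, Cfsg.sympForm m F (w i) (w j) = 0) ∧
    ∀ i j, Cfsg.sympForm m F (v i) (w j) = if i = j then 1 else 0

/-- The standard vectors realise a pairing up to a symplectic element. -/
theorem exists_gl_of_pairing {v w : Fin m → Vs} (h : IsPairing v w) :
    ∃ g : GL (Fin m ⊕ Fin m) F, g ∈ Cfsg.spGL m F ∧
      (∀ i, (g : Ms) *ᵥ Pi.single (Sum.inr i) 1 = v i) ∧ ∀ i, (g : Ms) *ᵥ Pi.single (Sum.inl i) 1 = w i := by
  classical
  obtain ⟨hvv, hww, hvw⟩ := h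
  let G : Ms := Matrix.of fun a b => Sum.elim w v b a
  have hG : ∀ b, G *ᵥ Pi.single b 1 = Sum.elim w v b := fun b => by
    rw [mulVec_single_one]; rfl
  have hmem : G ∈ Matrix.symplecticGroup (Fin m) F := by
    rw [SymplecticGroup.mem_iff']
    ext a b
    have h1 := SpTensorDerange.sympForm_mulVec G (Pi.single a 1) (Pi.single b 1)
    rw [hG, hG, mulVec_single_one, single_one_dotProduct, Matrix.col_apply] at h1
    rw [← h1]
    rcases a with i | i <;> rcases b with j | j <;> simp only [Sum.elim_inl, Sum.elim_inr]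
    · simp [hww, Matrix.J]
    · rw [Forms.sympForm_comm, hvw]; simp [Matrix.J, Matrix.one_apply, eq_comm, neg_eq_zero]
    · rw [hvw]; simp [Matrix.J, Matrix.one_apply]
    · simp [hvv, Matrix.J]
  exact ⟨SpTensorDerange.spUnit hmem, SpTensorDerange.spUnit_mem hmem, fun i => hG (Sum.inr i),
    fun i => hG (Sum.inl i)⟩

/-- Equality of matrices on the standard vectors. -/
theorem ext_single {A B : Ms} (hr : ∀ i, A *ᵥ Pi.single (Sum.inr i) 1 = B *ᵥ Pi.single (Sum.inr i) 1)
    (hl : ∀ i, A *ᵥ Pi.single (Sum.inl i) 1 = B *ᵥ Pi.single (Sum.inl i) 1) : A = B := by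
  ext a b
  rcases b with i | i
  · simpa using congrFun (hl i) a
  · simpa using congrFun (hr i) a

variable {A : Matrix (Fin m ⊕ Fin m) (Fin m ⊕ Fin m) F} {ε : F}
  {P : (Fin m ⊕ Fin m → F) → (Fin m ⊕ Fin m → F) → Prop}

/-- Splitting off invariant hyperbolic planes. -/
theorem exists_frame_aux (hε : ε ≠ 0)
    (hadj : ∀ u z, Cfsg.sympForm m F (A *ᵥ u) z = ε * Cfsg.sympForm m F u (A *ᵥ z))
    (hpick : ∀ W : Submodule F Vs, (∀ z ∈ W, A *ᵥ z ∈ W) →
      (∀ u ∈ W, (∀ z ∈ W, Cfsg.sympForm m F u z = 0) → u = 0) → W ≠ ⊥ →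
      ∃ v ∈ W, ∃ w ∈ W, Cfsg.sympForm m F v w = 1 ∧ P v w ∧
        A *ᵥ v ∈ Submodule.span F {v, w} ∧ A *ᵥ w ∈ Submodule.span F {v, w}) :
    ∀ (n : ℕ) (W : Submodule F Vs), Module.finrank F W ≤ n → (∀ z ∈ W, A *ᵥ z ∈ W) →
      (∀ u ∈ W, (∀ z ∈ W, Cfsg.sympForm m F u z = 0) → u = 0) →
      ∃ (b : ℕ) (v w : Fin b → Vs), b + b = Module.finrank F W ∧ IsPairing v w ∧
        (∀ i, P (v i) (w i)) ∧ (∀ i, v i ∈ W) ∧ ∀ i, w i ∈ W := by
  classical
  intro n
  induction n with
  | zero =>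
    intro W hW _ _
    exact ⟨0, Fin.elim0, Fin.elim0, by omega, ⟨fun i => i.elim0, fun i => i.elim0, fun i => i.elim0⟩,
      fun i => i.elim0, fun i => i.elim0, fun i => i.elim0⟩
  | succ n ih =>
    intro W hW hinv hnd
    by_cases hbot : W = ⊥
    · subst hbot
      exact ⟨0, Fin.elim0, Fin.elim0, by simp, ⟨fun i => i.elim0, fun i => i.elim0, fun i => i.elim0⟩,
        fun i => i.elim0, fun i => i.elim0, fun i => i.elim0⟩
    obtain ⟨v, hv, w, hw, hvw, hP, hAv, hAw⟩ := hpick W hinv hnd hbot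
    have hwv : Cfsg.sympForm m F w v = -1 := by rw [Forms.sympForm_comm, hvw]
    let φ : Vs →ₗ[F] F := (Forms.sympBilin m F) v
    let ψ : Vs →ₗ[F] F := (Forms.sympBilin m F) w
    let W' : Submodule F Vs := W ⊓ (LinearMap.ker φ ⊓ LinearMap.ker ψ)
    have hW' : ∀ z, z ∈ W' ↔ z ∈ W ∧ Cfsg.sympForm m F v z = 0 ∧ Cfsg.sympForm m F w z = 0 := fun z => by
      simp [W', φ, ψ, Forms.sympBilin_apply]
    -- projection
    have hproj : ∀ z ∈ W, z - Cfsg.sympForm m F v z • w + Cfsg.sympForm m F w z • v ∈ W' := by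
      intro z hz
      rw [hW']
      refine ⟨W.add_mem (W.sub_mem hz (W.smul_mem _ hw)) (W.smul_mem _ hv), ?_, ?_⟩
      · rw [SympMax.form_add_right, SympMax.form_sub_right, SympMax.form_smul_right,
          SympMax.form_smul_right, hvw, Forms.sympForm_self]
        ring
      · rw [SympMax.form_add_right, SympMax.form_sub_right, SympMax.form_smul_right,
          SympMax.form_smul_right, hwv, Forms.sympForm_self]
        ring
    have hspan : ∀ z ∈ W', ∀ u ∈ Submodule.span F ({v, w} : Set Vs), Cfsg.sympForm m F u z = 0 := by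
      intro z hz u hu
      obtain ⟨a, b, rfl⟩ := Submodule.mem_span_pair.1 hu
      rw [SympMax.form_add_left, SympMax.form_smul_left, SympMax.form_smul_left, ((hW' z).1 hz).2.1,
        ((hW' z).1 hz).2.2]
      ring
    have hinv' : ∀ z ∈ W', A *ᵥ z ∈ W' := by
      intro z hz
      refine (hW' _).2 ⟨hinv z ((hW' z).1 hz).1, ?_, ?_⟩
      · have h := hadj v z
        rw [hspan z hz _ hAv] at h
        exact (mul_eq_zero.1 h.symm).resolve_left hε
      · have h := hadj w z
        rw [hspan z hz _ hAw] at h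
        exact (mul_eq_zero.1 h.symm).resolve_left hε
    have hnd' : ∀ u ∈ W', (∀ z ∈ W', Cfsg.sympForm m F u z = 0) → u = 0 := by
      intro u hu h
      refine hnd u ((hW' u).1 hu).1 fun z hz => ?_
      have h1 := h _ (hproj z hz)
      have h2 : Cfsg.sympForm m F u v = 0 := by rw [Forms.sympForm_comm, ((hW' u).1 hu).2.1, neg_zero]
      have h3 : Cfsg.sympForm m F u w = 0 := by rw [Forms.sympForm_comm, ((hW' u).1 hu).2.2, neg_zero]
      rw [SympMax.form_add_right, SympMax.form_sub_right, SympMax.form_smul_right, SympMax.form_smul_right,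
        h2, h3] at h1
      linear_combination h1
    have hdim : Module.finrank F W' + 2 = Module.finrank F W := by
      let χ : W →ₗ[F] F × F := (φ.comp W.subtype).prod (ψ.comp W.subtype)
      have hr : LinearMap.range χ = ⊤ := by
        rw [eq_top_iff]
        rintro ⟨s, t⟩ -
        refine ⟨⟨s • w - t • v, W.sub_mem (W.smul_mem _ hw) (W.smul_mem _ hv)⟩, ?_⟩
        simp only [χ, φ, ψ, LinearMap.prod_apply, Function.prod_apply, LinearMap.comp_apply,
          Submodule.coe_subtype, Forms.sympBilin_apply, SympMax.form_sub_right, SympMax.form_smul_right,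
          hvw, hwv, Forms.sympForm_self]
        ext <;> simp
      have h := χ.finrank_range_add_finrank_ker
      rw [hr, finrank_top, Module.finrank_prod, Module.finrank_self] at h
      have hk : (LinearMap.ker χ).map W.subtype = W' := by
        ext z
        simp [χ, W', Submodule.mem_map]
        tauto
      have hk' := (Submodule.equivMapOfInjective W.subtype W.injective_subtype (LinearMap.ker χ)).finrank_eq
      rw [hk] at hk'
      omega
    obtain ⟨b, v', w', hb, ⟨hvv', hww', hvw'⟩, hP', hv', hw'⟩ := ih W' (by omega) hinv' hnd'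
    have o1 : ∀ z ∈ W', Cfsg.sympForm m F v z = 0 := fun z hz => ((hW' z).1 hz).2.1
    have o2 : ∀ z ∈ W', Cfsg.sympForm m F w z = 0 := fun z hz => ((hW' z).1 hz).2.2
    have o3 : ∀ z ∈ W', Cfsg.sympForm m F z v = 0 := fun z hz => by rw [Forms.sympForm_comm, o1 z hz, neg_zero]
    have o4 : ∀ z ∈ W', Cfsg.sympForm m F z w = 0 := fun z hz => by rw [Forms.sympForm_comm, o2 z hz, neg_zero]
    refine ⟨b + 1, Fin.cons v v', Fin.cons w w', by omega, ⟨?_, ?_, ?_⟩, ?_, ?_, ?_⟩
    · refine Fin.cases (Fin.cases ?_ fun j => ?_) fun i => Fin.cases ?_ fun j => ?_ <;>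
        simp [Forms.sympForm_self, o1 _ (hv' _), o3 _ (hv' _), hvv']
    · refine Fin.cases (Fin.cases ?_ fun j => ?_) fun i => Fin.cases ?_ fun j => ?_ <;>
        simp [Forms.sympForm_self, o2 _ (hw' _), o4 _ (hw' _), hww']
    · refine Fin.cases (Fin.cases ?_ fun j => ?_) fun i => Fin.cases ?_ fun j => ?_
      · simp [hvw]
      · simp [o1 _ (hw' j), (Fin.succ_ne_zero j).symm]
      · simp [o4 _ (hv' i), Fin.succ_ne_zero i]
      · simp [hvw']
    · exact Fin.cases (by simpa using hP) (fun i => by simpa using hP' i)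
    · exact Fin.cases (by simpa using hv) (fun i => by simpa using ((hW' _).1 (hv' i)).1)
    · exact Fin.cases (by simpa using hw) (fun i => by simpa using ((hW' _).1 (hw' i)).1)

/-- A frame of invariant planes for the whole space. -/
theorem exists_frame (hε : ε ≠ 0)
    (hadj : ∀ u z, Cfsg.sympForm m F (A *ᵥ u) z = ε * Cfsg.sympForm m F u (A *ᵥ z))
    (hpick : ∀ W : Submodule F Vs, (∀ z ∈ W, A *ᵥ z ∈ W) →
      (∀ u ∈ W, (∀ z ∈ W, Cfsg.sympForm m F u z = 0) → u = 0) → W ≠ ⊥ →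
      ∃ v ∈ W, ∃ w ∈ W, Cfsg.sympForm m F v w = 1 ∧ P v w ∧
        A *ᵥ v ∈ Submodule.span F {v, w} ∧ A *ᵥ w ∈ Submodule.span F {v, w}) :
    ∃ g : GL (Fin m ⊕ Fin m) F, g ∈ Cfsg.spGL m F ∧
      ∀ i, P ((g : Ms) *ᵥ Pi.single (Sum.inr i) 1) ((g : Ms) *ᵥ Pi.single (Sum.inl i) 1) := by
  obtain ⟨b, v, w, hb, hp, hP, -, -⟩ := exists_frame_aux hε hadj hpick (m + m) ⊤
    (by rw [finrank_top, Module.finrank_fintype_fun_eq_card]; simp) (fun _ _ => trivial)
    (fun u _ h => by
      by_contra hu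
      obtain ⟨z, hz⟩ := SympMax.exists_form_ne hu
      exact hz (h z trivial))
  rw [finrank_top, Module.finrank_fintype_fun_eq_card, Fintype.card_sum, Fintype.card_fin] at hb
  obtain rfl : b = m := by omega
  obtain ⟨g, hg, hgv, hgw⟩ := exists_gl_of_pairing hp
  exact ⟨g, hg, fun i => by rw [hgv, hgw]; exact hP i⟩

/-- The standard anti-adjoint square root of `c`. -/
def stdAnti (m : ℕ) (c : F) : Ms := fromBlocks 0 1 (c • 1) 0

theorem stdAnti_mulVec_inr (c : F) (i : Fin m) :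
    stdAnti m c *ᵥ Pi.single (Sum.inr i) 1 = Pi.single (Sum.inl i) 1 := by
  ext (j | j) <;> simp [stdAnti, Matrix.one_apply, Pi.single_apply, eq_comm]

theorem stdAnti_mulVec_inl (c : F) (i : Fin m) :
    stdAnti m c *ᵥ Pi.single (Sum.inl i) 1 = c • Pi.single (Sum.inr i) 1 := by
  ext (j | j) <;> simp [stdAnti, Matrix.one_apply, Pi.single_apply, eq_comm]

/-- An anti-adjoint square root of a non-zero scalar is conjugate to the standard one. -/
theorem exists_anti_frame [Finite F] (h2 : (2 : F) ≠ 0) {c : F} (hc : c ≠ 0) (A : Ms) (hAA : A * A = c • 1)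
    (hadj : ∀ u z, Cfsg.sympForm m F (A *ᵥ u) z = -Cfsg.sympForm m F u (A *ᵥ z)) :
    ∃ g : GL (Fin m ⊕ Fin m) F, g ∈ Cfsg.spGL m F ∧ A * (g : Ms) = (g : Ms) * stdAnti m c := by
  have hAAv : ∀ z, A *ᵥ (A *ᵥ z) = c • z := fun z => by rw [mulVec_mulVec, hAA, smul_mulVec, one_mulVec]
  obtain ⟨g, hg, hP⟩ := exists_frame (A := A) (ε := -1) (P := fun v w => A *ᵥ v = w ∧ A *ᵥ w = c • v)
    (by norm_num) (fun u z => by rw [hadj]; ring) (fun W hinv hnd hW => by
      obtain ⟨v, hv, hQ⟩ : ∃ v ∈ W, Cfsg.sympForm m F v (A *ᵥ v) ≠ 0 := by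
        by_contra hno
        push Not at hno
        obtain ⟨u, hu, hu0⟩ := W.ne_bot_iff.1 hW
        refine hu0 (hnd u hu fun z hz => ?_)
        have key : ∀ z ∈ W, Cfsg.sympForm m F u (A *ᵥ z) = 0 := by
          intro z hz
          have h := hno (u + z) (W.add_mem hu hz)
          rw [mulVec_add, SympMax.form_add_left, SympMax.form_add_right, SympMax.form_add_right,
            hno u hu, hno z hz, Forms.sympForm_comm z (A *ᵥ u), hadj] at h
          have h' : 2 * Cfsg.sympForm m F u (A *ᵥ z) = 0 := by linear_combination h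
          exact (mul_eq_zero.1 h').resolve_left h2
        have h := key _ (hinv z hz)
        rw [hAAv, SympMax.form_smul_right] at h
        exact (mul_eq_zero.1 h).resolve_left hc
      set Q := Cfsg.sympForm m F v (A *ᵥ v)
      haveI := Fintype.ofFinite F
      obtain ⟨s, t, hst⟩ : ∃ s t : F, (s * s - c * (t * t)) * Q = 1 := by
        have hodd : Fintype.card F % 2 = 1 := FiniteField.odd_card_of_char_ne_two fun h => h2 (by
          haveI := ringChar.eq_iff.1 h
          exact CharTwo.two_eq_zero)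
        obtain ⟨s, t, hst⟩ := FiniteField.exists_root_sum_quadratic (R := F)
          (f := Polynomial.X ^ 2 - Polynomial.C Q⁻¹) (g := Polynomial.C (-c) * Polynomial.X ^ 2)
          (Polynomial.degree_X_pow_sub_C two_pos _)
          (by rw [Polynomial.degree_C_mul_X_pow 2 (neg_ne_zero.2 hc)]; rfl) hodd
        simp at hst
        exact ⟨s, t, by field_simp at hst; linear_combination hst⟩
      refine ⟨s • v + t • (A *ᵥ v), W.add_mem (W.smul_mem _ hv) (W.smul_mem _ (hinv v hv)),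
        A *ᵥ (s • v + t • (A *ᵥ v)), hinv _ (W.add_mem (W.smul_mem _ hv) (W.smul_mem _ (hinv v hv))),
        ?_, ⟨rfl, hAAv _⟩, Submodule.subset_span (by simp), ?_⟩
      · rw [mulVec_add, mulVec_smul, mulVec_smul, hAAv]
        simp only [SympMax.form_add_left, SympMax.form_add_right, SympMax.form_smul_left,
          SympMax.form_smul_right, Forms.sympForm_self]
        rw [Forms.sympForm_comm (A *ᵥ v) v]
        linear_combination hst
      · rw [hAAv]
        exact Submodule.smul_mem _ _ (Submodule.subset_span (by simp)))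
  refine ⟨g, hg, ext_single (fun i => ?_) fun i => ?_⟩
  · rw [← mulVec_mulVec, ← mulVec_mulVec, stdAnti_mulVec_inr, (hP i).1]
  · rw [← mulVec_mulVec, ← mulVec_mulVec, stdAnti_mulVec_inl, mulVec_smul, (hP i).2]

/-- Two such square roots are conjugate. -/
theorem exists_anti_conj [Finite F] (h2 : (2 : F) ≠ 0) {c : F} (hc : c ≠ 0) (A B : Ms) (hAA : A * A = c • 1)
    (hA : ∀ u z, Cfsg.sympForm m F (A *ᵥ u) z = -Cfsg.sympForm m F u (A *ᵥ z)) (hBB : B * B = c • 1)
    (hB : ∀ u z, Cfsg.sympForm m F (B *ᵥ u) z = -Cfsg.sympForm m F u (B *ᵥ z)) :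
    ∃ g : GL (Fin m ⊕ Fin m) F, g ∈ Cfsg.spGL m F ∧ A * (g : Ms) = (g : Ms) * B := by
  obtain ⟨g, hg, hgA⟩ := exists_anti_frame h2 hc A hAA hA
  obtain ⟨h, hh, hhB⟩ := exists_anti_frame h2 hc B hBB hB
  refine ⟨g * h⁻¹, mul_mem hg (inv_mem hh), ?_⟩
  have hB' : stdAnti m c * ((h⁻¹ : GL (Fin m ⊕ Fin m) F) : Ms) = ((h⁻¹ : GL (Fin m ⊕ Fin m) F) : Ms) * B := by
    calc stdAnti m c * ((h⁻¹ : GL (Fin m ⊕ Fin m) F) : Ms)
        = ((h⁻¹ : GL (Fin m ⊕ Fin m) F) : Ms) * ((h : Ms) * stdAnti m c) * ((h⁻¹ : GL (Fin m ⊕ Fin m) F) : Ms) := by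
          rw [← mul_assoc ((h⁻¹ : GL (Fin m ⊕ Fin m) F) : Ms), ← Units.val_mul, inv_mul_cancel, Units.val_one, one_mul]
      _ = _ := by
          rw [← hhB, mul_assoc, mul_assoc B, ← Units.val_mul h, mul_inv_cancel, Units.val_one, mul_one]
  rw [Units.val_mul, ← mul_assoc, hgA, mul_assoc, hB', mul_assoc]

/-- A diagonal sign matrix on the pairs. -/
def stdSign (e : Fin m → F) : Ms := diagonal (Sum.elim e e)

/-- An involutive isometry has a frame of eigenvectors. -/
theorem exists_sign_frame (h2 : (2 : F) ≠ 0) (A : Ms) (hAA : A * A = 1)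
    (hA : ∀ u z, Cfsg.sympForm m F (A *ᵥ u) (A *ᵥ z) = Cfsg.sympForm m F u z) :
    ∃ (g : GL (Fin m ⊕ Fin m) F) (e : Fin m → F), g ∈ Cfsg.spGL m F ∧ (∀ i, e i = 1 ∨ e i = -1) ∧
      A * (g : Ms) = (g : Ms) * stdSign e := by
  classical
  have hAAv : ∀ z, A *ᵥ (A *ᵥ z) = z := fun z => by rw [mulVec_mulVec, hAA, one_mulVec]
  have hadj : ∀ u z, Cfsg.sympForm m F (A *ᵥ u) z = Cfsg.sympForm m F u (A *ᵥ z) := fun u z => by
    conv_lhs => rw [← hAAv z, hA]
  obtain ⟨g, hg, hP⟩ := exists_frame (A := A) (ε := 1)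
    (P := fun v w => ∃ s : F, (s = 1 ∨ s = -1) ∧ A *ᵥ v = s • v ∧ A *ᵥ w = s • w)
    one_ne_zero (fun u z => by rw [hadj, one_mul]) (fun W hinv hnd hW => by
      obtain ⟨u, hu, hu0⟩ := W.ne_bot_iff.1 hW
      obtain ⟨v, hv, hv0, s, hs, hsv⟩ : ∃ v ∈ W, v ≠ 0 ∧ ∃ s : F, (s = 1 ∨ s = -1) ∧ A *ᵥ v = s • v := by
        by_cases hp : u + A *ᵥ u = 0
        · exact ⟨u, hu, hu0, -1, Or.inr rfl, by rw [neg_one_smul]; exact eq_neg_of_add_eq_zero_right hp⟩
        · exact ⟨u + A *ᵥ u, W.add_mem hu (hinv u hu), hp, 1, Or.inl rfl,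
            by rw [one_smul, mulVec_add, hAAv, add_comm]⟩
      obtain ⟨z, hz, hvz⟩ : ∃ z ∈ W, Cfsg.sympForm m F v z ≠ 0 := by
        by_contra hno
        push Not at hno
        exact hv0 (hnd v hv hno)
      have hss : s * s = 1 := by rcases hs with rfl | rfl <;> norm_num
      set w := (2 * Cfsg.sympForm m F v z)⁻¹ • (z + s • (A *ᵥ z))
      have hsw : A *ᵥ w = s • w := by
        simp only [w, mulVec_smul, mulVec_add, hAAv]
        rw [smul_comm s]
        congr 1
        rw [smul_add, smul_smul, hss, one_smul, add_comm]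
      refine ⟨v, hv, w, W.smul_mem _ (W.add_mem hz (W.smul_mem _ (hinv z hz))), ?_, ⟨s, hs, hsv, hsw⟩,
        hsv ▸ Submodule.smul_mem _ _ (Submodule.subset_span (by simp)),
        hsw ▸ Submodule.smul_mem _ _ (Submodule.subset_span (by simp))⟩
      simp only [w, SympMax.form_smul_right, SympMax.form_add_right]
      rw [← hadj v z, hsv, SympMax.form_smul_left, ← mul_assoc s, hss]
      field_simp
      ring)
  choose e he hev hew using hP
  refine ⟨g, e, hg, he, ext_single (fun i => ?_) fun i => ?_⟩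
  · rw [← mulVec_mulVec, ← mulVec_mulVec, hev]
    rw [stdSign, show diagonal (Sum.elim e e) *ᵥ Pi.single (Sum.inr i) (1 : F) =
      e i • Pi.single (Sum.inr i) (1 : F) from by ext j; simp [mulVec_diagonal, Pi.single_apply]; aesop,
      mulVec_smul]
  · rw [← mulVec_mulVec, ← mulVec_mulVec, hew]
    rw [stdSign, show diagonal (Sum.elim e e) *ᵥ Pi.single (Sum.inl i) (1 : F) =
      e i • Pi.single (Sum.inl i) (1 : F) from by ext j; simp [mulVec_diagonal, Pi.single_apply]; aesop,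
      mulVec_smul]

end Cfsg.Agent.Lib.SpExtDerange
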