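import Cfsg.Agent.Lib.ExtFieldMax.SympQuadNormalizer
import Cfsg.Agent.Lib.Classical.UnitaryOrder
import Cfsg.Agent.Lib.SpExtDerange.Frames

/-!
An adjoint-closed quadratic field that is not self-adjoint: generator and order of its centraliser.
-/

set_option autoImplicit false
set_option linter.style.haveILetI false

open Cfsg Cfsg.Agent

namespace Cfsg.Agent.Lib.SpExtDerange

open Matrix

variable {F : Type*} [Field F] [Fintype F] {m : ℕ}

/-- The generator: an anti-adjoint square root of a non-square. -/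
theorem exists_anti_gen [Nonempty (Fin m ⊕ Fin m)] (hodd : Odd (Fintype.card F))
    (K : Subalgebra F (Matrix (Fin m ⊕ Fin m) (Fin m ⊕ Fin m) F)) (hK : Cfsg.Geo.IsFieldSubalgebra 2 K)
    (hac : Cfsg.Geo.IsAdjointClosedFor (Cfsg.sympForm m F) K)
    (hnsa : ¬ Cfsg.Geo.IsSelfAdjointFor (Cfsg.sympForm m F) K) :
    ∃ (j : Matrix (Fin m ⊕ Fin m) (Fin m ⊕ Fin m) F) (d : F), j ∈ K ∧ j * j = d • 1 ∧ (∀ s : F, s * s ≠ d) ∧
      (∀ u v, Cfsg.sympForm m F (j *ᵥ u) v = -Cfsg.sympForm m F u (j *ᵥ v)) ∧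
      (∀ k ∈ K, ∃ a b : F, k = a • 1 + b • j) ∧
      ∀ s t : F, s • (1 : Matrix (Fin m ⊕ Fin m) (Fin m ⊕ Fin m) F) + t • j = 0 → s = 0 ∧ t = 0 := by
  classical
  have h2 : (2 : F) ≠ 0 := Ring.two_ne_zero fun h => by
    have h' := FiniteField.even_card_of_char_two h
    obtain ⟨k, hk⟩ := hodd; omega
  obtain ⟨j, d, hjK, hjj, hd, hspan⟩ := ExtFieldMax.SympQuadNorm.exists_root_gen h2 K hK
  have hd0 : d ≠ 0 := fun e => hd 0 (by rw [mul_zero, e])
  have hjjv : ∀ x, j *ᵥ (j *ᵥ x) = d • x := fun x => by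
    rw [mulVec_mulVec, hjj, smul_mulVec, one_mulVec]
  -- the adjoint of `j` is `-j`
  obtain ⟨j', hj'K, hadj⟩ := hac j hjK
  obtain ⟨a, b, rfl⟩ := hspan j' hj'K
  have key : ∀ u v, Cfsg.sympForm m F (j *ᵥ u) v =
      a * Cfsg.sympForm m F u v + b * Cfsg.sympForm m F u (j *ᵥ v) := fun u v => by
    rw [hadj u v, add_mulVec, smul_mulVec, smul_mulVec, one_mulVec,
      Lib.SympMax.form_add_right, Lib.SympMax.form_smul_right, Lib.SympMax.form_smul_right]
  have hab : ∀ u v, a * (1 + b) * Cfsg.sympForm m F u v +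
      (b * b - 1) * Cfsg.sympForm m F u (j *ᵥ v) = 0 := fun u v => by
    have h1 := key v u
    rw [Lib.Forms.sympForm_comm v u, Lib.Forms.sympForm_comm v (j *ᵥ u),
      Lib.Forms.sympForm_comm (j *ᵥ v) u, key u v] at h1
    linear_combination h1
  have hmat : (a * (1 + b)) • (1 : Matrix (Fin m ⊕ Fin m) (Fin m ⊕ Fin m) F) + (b * b - 1) • j = 0 := by
    refine Matrix.ext_iff_mulVec.mpr fun v => ?_
    rw [zero_mulVec, add_mulVec, smul_mulVec, smul_mulVec, one_mulVec]
    by_contra hne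
    obtain ⟨u, hu⟩ := Lib.SympMax.exists_form_ne hne
    rw [Lib.Forms.sympForm_comm, Lib.SympMax.form_add_right, Lib.SympMax.form_smul_right,
      Lib.SympMax.form_smul_right, hab, neg_zero] at hu
    exact hu rfl
  have hind : ∀ s t : F, s • (1 : Matrix (Fin m ⊕ Fin m) (Fin m ⊕ Fin m) F) + t • j = 0 → s = 0 ∧ t = 0 := by
    intro s t e
    have ht : t = 0 := by
      by_contra ht
      have hjs : j = (-s / t) • (1 : Matrix (Fin m ⊕ Fin m) (Fin m ⊕ Fin m) F) := by
        rw [div_eq_inv_mul, mul_smul, neg_smul, ← eq_neg_of_add_eq_zero_right e, inv_smul_smul₀ ht]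
      refine hd (-s / t) ?_
      have h1 := hjj
      rw [hjs, smul_mul_smul_comm, one_mul] at h1
      exact smul_left_injective F one_ne_zero h1
    subst ht
    rw [zero_smul, add_zero] at e
    exact ⟨(smul_eq_zero.mp e).resolve_right one_ne_zero, rfl⟩
  obtain ⟨hab1, hab2⟩ := hind _ _ hmat
  have hbne : b ≠ 1 := by
    intro hb
    subst hb
    have ha : a = 0 := by
      have : a * 2 = 0 := by linear_combination hab1
      exact (mul_eq_zero.mp this).resolve_right h2
    refine hnsa fun k hk u v => ?_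
    obtain ⟨s, t, rfl⟩ := hspan k hk
    rw [add_mulVec, add_mulVec, smul_mulVec, smul_mulVec, smul_mulVec, smul_mulVec, one_mulVec, one_mulVec,
      Lib.SympMax.form_add_left, Lib.SympMax.form_add_right, Lib.SympMax.form_smul_left,
      Lib.SympMax.form_smul_left, Lib.SympMax.form_smul_right, Lib.SympMax.form_smul_right, key, ha]
    ring
  have hb : b = -1 := (mul_self_eq_one_iff.mp (sub_eq_zero.mp hab2)).resolve_left hbne
  -- `j ^ 2 = d` forces the scalar part of the adjoint to vanish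
  have ha : a = 0 := by
    by_contra ha
    have h4 : (a * a) • (1 : Matrix (Fin m ⊕ Fin m) (Fin m ⊕ Fin m) F) + (-(2 * a)) • j = 0 := by
      refine Matrix.ext_iff_mulVec.mpr fun w => ?_
      rw [zero_mulVec, add_mulVec, smul_mulVec, smul_mulVec, one_mulVec]
      by_contra hne
      obtain ⟨x, hx⟩ := Lib.SympMax.exists_form_ne hne
      refine hx ?_
      have h1 := key (j *ᵥ x) w
      rw [hjjv, Lib.SympMax.form_smul_left, key x w, key x (j *ᵥ w), hjjv, Lib.SympMax.form_smul_right, hb] at h1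
      rw [Lib.Forms.sympForm_comm, Lib.SympMax.form_add_right, Lib.SympMax.form_smul_right,
        Lib.SympMax.form_smul_right]
      linear_combination h1
    exact mul_ne_zero h2 ha (neg_eq_zero.mp (hind _ _ h4).2)
  have hjf : ∀ u v, Cfsg.sympForm m F (j *ᵥ u) v = -Cfsg.sympForm m F u (j *ᵥ v) := fun u v => by
    rw [key, ha, hb]; ring
  exact ⟨j, d, hjK, hjj, hd, hjf, hspan, hind⟩

/-- An element commuting or anticommuting with the generator normalises the field. -/
theorem mem_normalizer_of_gen {K : Subalgebra F (Matrix (Fin m ⊕ Fin m) (Fin m ⊕ Fin m) F)}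
    {j : Matrix (Fin m ⊕ Fin m) (Fin m ⊕ Fin m) F} (hjK : j ∈ K) (hspan : ∀ k ∈ K, ∃ a b : F, k = a • 1 + b • j)
    {g : GL (Fin m ⊕ Fin m) F} {e : F}
    (hg : (g : Matrix (Fin m ⊕ Fin m) (Fin m ⊕ Fin m) F) * j = e • (j * (g : Matrix (Fin m ⊕ Fin m) (Fin m ⊕ Fin m) F))) :
    g ∈ Cfsg.Geo.subalgebraNormalizer K := by
  refine mem_normalizer_of_maps fun x hx => ?_
  obtain ⟨a, b, rfl⟩ := hspan x hx
  rw [mul_add, add_mul, mul_smul_comm, smul_mul_assoc, mul_one, ← Units.val_mul, mul_inv_cancel, Units.val_one,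
    mul_smul_comm, smul_mul_assoc, hg, smul_mul_assoc, mul_assoc, ← Units.val_mul, mul_inv_cancel, Units.val_one,
    mul_one, smul_smul]
  exact K.add_mem (K.smul_mem K.one_mem a) (K.smul_mem hjK _)

/-- The unitary group over the field embeds in the normaliser. -/
theorem unitary_card_dvd [Nonempty (Fin m ⊕ Fin m)] (hodd : Odd (Fintype.card F))
    (K : Subalgebra F (Matrix (Fin m ⊕ Fin m) (Fin m ⊕ Fin m) F)) (hK : Cfsg.Geo.IsFieldSubalgebra 2 K)
    (hac : Cfsg.Geo.IsAdjointClosedFor (Cfsg.sympForm m F) K)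
    (hnsa : ¬ Cfsg.Geo.IsSelfAdjointFor (Cfsg.sympForm m F) K) :
    (Cfsg.Geo.subalgebraNormalizer K).relIndex (Cfsg.spGL m F) *
        (Fintype.card F ^ (m * (m - 1) / 2) *
          ∏ i ∈ Finset.range m, (if Even i then Fintype.card F ^ (i + 1) + 1 else Fintype.card F ^ (i + 1) - 1)) ∣
      Nat.card (Cfsg.spGL m F) := by
  classical
  obtain ⟨j, d, hjK, hjj, hd, hjf, hspan, hind⟩ := exists_anti_gen hodd K hK hac hnsa
  set q := Fintype.card F with hq
  have hd0 : d ≠ 0 := fun e => hd 0 (by rw [mul_zero, e])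
  have hq2 : q % 2 = 1 := Nat.odd_iff.1 hodd
  have hchar : ringChar F ≠ 2 := fun h => by
    have := FiniteField.even_card_of_char_two h
    obtain ⟨k, hk⟩ := hodd; omega
  have h2 : (2 : F) ≠ 0 := Ring.two_ne_zero hchar
  have hdq : d ^ (q / 2) = -1 := (FiniteField.pow_dichotomy hchar hd0).resolve_left fun h => by
    obtain ⟨s, hs⟩ := (FiniteField.isSquare_iff hchar hd0).2 h
    exact hd s hs.symm
  haveI : Nontrivial K := ⟨⟨1, 0, fun h => one_ne_zero (congrArg Subtype.val h)⟩⟩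
  letI fK : Field K :=
    IsField.toField
      { exists_pair_ne := exists_pair_ne K
        mul_comm := fun x y => Subtype.ext (hK.comm x x.2 y y.2)
        mul_inv_cancel := fun {x} hx => by
          obtain ⟨y, hy, hxy⟩ := hK.inv x x.2 (fun h => hx (Subtype.ext h))
          exact ⟨⟨y, hy⟩, Subtype.ext hxy⟩ }
  haveI : Finite K := Finite.of_injective _ Subtype.val_injective
  haveI : Fintype K := Fintype.ofFinite K
  let J : K := ⟨j, hjK⟩
  -- coordinates
  have hco : ∀ x : K, ∃ p : F × F, x = p.1 • (1 : K) + p.2 • J := fun x => by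
    obtain ⟨a, b, h⟩ := hspan x x.2
    exact ⟨(a, b), Subtype.ext h⟩
  choose co hco using hco
  have hu : ∀ (a b : F), co (a • (1 : K) + b • J) = (a, b) := fun a b => by
    have h : (a - (co (a • (1 : K) + b • J)).1) • (1 : Matrix (Fin m ⊕ Fin m) (Fin m ⊕ Fin m) F) +
        (b - (co (a • (1 : K) + b • J)).2) • j = 0 := by
      have h' : a • (1 : Matrix (Fin m ⊕ Fin m) (Fin m ⊕ Fin m) F) + b • j =
          (co (a • (1 : K) + b • J)).1 • 1 + (co (a • (1 : K) + b • J)).2 • j :=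
        congrArg Subtype.val (hco (a • (1 : K) + b • J))
      rw [← sub_eq_zero] at h'
      rw [← h']
      module
    obtain ⟨h1, h3⟩ := hind _ _ h
    exact Prod.ext (sub_eq_zero.1 h1).symm (sub_eq_zero.1 h3).symm
  have hadd : ∀ x y, co (x + y) = co x + co y := fun x y => by
    conv_lhs => rw [hco x, hco y]
    rw [show (co x).1 • (1 : K) + (co x).2 • J + ((co y).1 • (1 : K) + (co y).2 • J) =
      ((co x).1 + (co y).1) • (1 : K) + ((co x).2 + (co y).2) • J by rw [add_smul, add_smul]; abel, hu]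
    rfl
  have hsmul : ∀ (c : F) x, co (c • x) = c • co x := fun c x => by
    conv_lhs => rw [hco x]
    rw [smul_add, smul_smul, smul_smul, hu]
    rfl
  let coL : K →ₗ[F] F × F := { toFun := co, map_add' := hadd, map_smul' := hsmul }
  have hJJ : J * J = d • (1 : K) := Subtype.ext hjj
  have hJco : ∀ x, co (J * x) = (d * (co x).2, (co x).1) := fun x => by
    conv_lhs => rw [hco x]
    rw [mul_add, mul_smul_comm, mul_smul_comm, mul_one, hJJ, smul_smul, add_comm, hu, mul_comm d]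
  -- conjugation is the `q`-th power
  have hconj : ∀ x : K, co (x ^ q) = ((co x).1, -(co x).2) := fun x => by
    have hJq : J ^ q = -J := by
      rw [show q = 2 * (q / 2) + 1 by omega, pow_succ, pow_mul, sq, hJJ, _root_.smul_pow, one_pow, hdq]
      simp
    have h : x ^ q = FiniteField.frobeniusAlgHom F K x := rfl
    rw [h]
    conv_lhs => rw [hco x]
    rw [map_add, map_smul, map_smul, map_one, show FiniteField.frobeniusAlgHom F K J = J ^ q from rfl, hJq,
      smul_neg, ← neg_smul, hu]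
  obtain ⟨g, hg, hgj⟩ := exists_anti_frame h2 hd0 j hjj hjf
  -- the coordinate map
  let Φ : (Fin m → K) →ₗ[F] (Fin m ⊕ Fin m → F) :=
    (g : Matrix (Fin m ⊕ Fin m) (Fin m ⊕ Fin m) F).mulVecLin ∘ₗ
      { toFun := fun u => Sum.elim (fun i => (coL (u i)).2) (fun i => (coL (u i)).1)
        map_add' := fun u v => funext fun a => by cases a <;> simp
        map_smul' := fun c u => funext fun a => by cases a <;> simp }
  have hΦv : ∀ u, Φ u = (g : Matrix (Fin m ⊕ Fin m) (Fin m ⊕ Fin m) F) *ᵥ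
      Sum.elim (fun i => (co (u i)).2) (fun i => (co (u i)).1) := fun _ => rfl
  have hinjΦ : Function.Injective Φ := by
    intro u v h
    have h' := congrArg (((g⁻¹ : GL (Fin m ⊕ Fin m) F) : Matrix (Fin m ⊕ Fin m) (Fin m ⊕ Fin m) F) *ᵥ ·) h
    simp only [hΦv, mulVec_mulVec, ← Units.val_mul, inv_mul_cancel, Units.val_one, one_mulVec] at h'
    funext i
    have e1 := congrFun h' (Sum.inl i)
    have e2 := congrFun h' (Sum.inr i)
    simp only [Sum.elim_inl, Sum.elim_inr] at e1 e2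
    rw [hco (u i), hco (v i), e1, e2]
  let Φe : (Fin m → K) ≃ₗ[F] (Fin m ⊕ Fin m → F) := LinearEquiv.ofBijective Φ ⟨hinjΦ, by
    refine (LinearMap.injective_iff_surjective_of_finrank_eq_finrank ?_).1 hinjΦ
    rw [Module.finrank_pi_fintype, Module.finrank_fintype_fun_eq_card, Finset.sum_const, Finset.card_univ,
      hK.finrank_eq, Fintype.card_fin, Fintype.card_sum, Fintype.card_fin, smul_eq_mul]
    omega⟩
  have hΦe : ∀ u, Φe u = Φ u := fun _ => rfl
  have hform : ∀ u v, Cfsg.sympForm m F (Φe u) (Φe v) = -(co (Cfsg.hermForm m K q u v)).2 := by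
    intro u v
    have hs : (co (Cfsg.hermForm m K q u v)).2 = ∑ i, (co (u i * v i ^ q)).2 := by
      show (LinearMap.snd F F F ∘ₗ coL) (∑ i, u i * v i ^ q) = _
      rw [map_sum]; rfl
    rw [hs, hΦe, hΦe, hΦv, hΦv, SympMax.apply_sp hg, Forms.sympForm_apply, ← Finset.sum_neg_distrib]
    refine Finset.sum_congr rfl fun i _ => ?_
    have hm : co (u i * v i ^ q) = ((co (u i)).1 * (co (v i)).1 - d * ((co (u i)).2 * (co (v i)).2),
        (co (u i)).2 * (co (v i)).1 - (co (u i)).1 * (co (v i)).2) := by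
      conv_lhs => rw [hco (u i), add_mul, smul_mul_assoc, smul_mul_assoc, one_mul]
      rw [hadd, hsmul, hsmul, hJco, hconj]
      ext <;> simp <;> ring
    rw [hm]
    simp only [Sum.elim_inl, Sum.elim_inr]
    ring
  have hlin : ∀ u, j *ᵥ Φe u = Φe (fun i => J * u i) := by
    intro u
    rw [hΦe, hΦe, hΦv, hΦv, mulVec_mulVec, hgj, ← mulVec_mulVec]
    congr 1
    rw [stdAnti, fromBlocks_mulVec]
    funext a
    rcases a with i | i <;> simp [hJco, smul_mulVec]
  -- the embedding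
  set U := Cfsg.GU m K q
  let L : U → Matrix (Fin m ⊕ Fin m) (Fin m ⊕ Fin m) F := fun M => LinearMap.toMatrix'
    (Φe.toLinearMap ∘ₗ ((M : GL (Fin m) K) : Matrix (Fin m) (Fin m) K).mulVecLin.restrictScalars F ∘ₗ
      Φe.symm.toLinearMap)
  have hL : ∀ M v, L M *ᵥ v = Φe (((M : GL (Fin m) K) : Matrix (Fin m) (Fin m) K) *ᵥ Φe.symm v) := fun M v => by
    rw [LinearMap.toMatrix'_mulVec]; rfl
  let Lh : U →* Matrix (Fin m ⊕ Fin m) (Fin m ⊕ Fin m) F :=
    { toFun := L
      map_one' := Matrix.ext_iff_mulVec.mpr fun v => by simp [hL]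
      map_mul' := fun M N => Matrix.ext_iff_mulVec.mpr fun v => by
        rw [← mulVec_mulVec, hL, hL, hL, Φe.symm_apply_apply, mulVec_mulVec, Subgroup.coe_mul, Units.val_mul] }
  let Lu : U →* GL (Fin m ⊕ Fin m) F := Lh.toHomUnits
  have hLu : ∀ M v, (Lu M : Matrix (Fin m ⊕ Fin m) (Fin m ⊕ Fin m) F) *ᵥ v =
      Φe (((M : GL (Fin m) K) : Matrix (Fin m) (Fin m) K) *ᵥ Φe.symm v) := fun M v => hL M v
  have hsp : ∀ M, Lu M ∈ Cfsg.spGL m F := by
    intro M u v
    show Cfsg.sympForm m F ((Lu M : Matrix (Fin m ⊕ Fin m) (Fin m ⊕ Fin m) F) *ᵥ u)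
      ((Lu M : Matrix (Fin m ⊕ Fin m) (Fin m ⊕ Fin m) F) *ᵥ v) = _
    rw [hLu, hLu, hform]
    conv_rhs => rw [← Φe.apply_symm_apply u, ← Φe.apply_symm_apply v, hform]
    rw [show Cfsg.hermForm m K q (((M : GL (Fin m) K) : Matrix (Fin m) (Fin m) K) *ᵥ Φe.symm u)
      (((M : GL (Fin m) K) : Matrix (Fin m) (Fin m) K) *ᵥ Φe.symm v) =
        Cfsg.hermForm m K q (Φe.symm u) (Φe.symm v) from M.2 _ _]
  have hN : ∀ M, Lu M ∈ Cfsg.Geo.subalgebraNormalizer K := by
    intro M
    refine mem_normalizer_of_gen hjK hspan (e := 1) ?_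
    rw [one_smul]
    refine Matrix.ext_iff_mulVec.mpr fun v => ?_
    obtain ⟨u, rfl⟩ := Φe.surjective v
    rw [← mulVec_mulVec, ← mulVec_mulVec, hlin, hLu, hLu, Φe.symm_apply_apply, Φe.symm_apply_apply, hlin,
      show (fun i => J * u i) = J • u from rfl, mulVec_smul]
    rfl
  let ψ : U →* (Cfsg.Geo.subalgebraNormalizer K).subgroupOf (Cfsg.spGL m F) :=
    { toFun := fun M => ⟨⟨Lu M, hsp M⟩, hN M⟩
      map_one' := Subtype.ext (Subtype.ext (map_one Lu))
      map_mul' := fun M N => Subtype.ext (Subtype.ext (map_mul Lu M N)) }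
  have hinj : Function.Injective ψ := by
    intro M N h
    have h' : Lu M = Lu N := congrArg (fun x => x.1.1) h
    refine Subtype.ext (Units.ext (Matrix.ext_iff_mulVec.mpr fun v => Φe.injective ?_))
    have h1 := hLu M (Φe v)
    have h3 := hLu N (Φe v)
    rw [h', h3, Φe.symm_apply_apply] at h1
    exact h1.symm
  have hcardK : Fintype.card K = q ^ 2 := by
    rw [Module.card_eq_pow_finrank (K := F) (V := K), hK.finrank_eq]
  have hcard := Subgroup.card_dvd_of_injective ψ hinj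
  rw [Classical.natCard_GU hcardK] at hcard
  rw [← Subgroup.card_mul_index ((Cfsg.Geo.subalgebraNormalizer K).subgroupOf (Cfsg.spGL m F)),
    mul_comm (Nat.card _)]
  exact mul_dvd_mul_left _ hcard

end Cfsg.Agent.Lib.SpExtDerange
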