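import Mathlib

/-!
Arithmetic for elements of prime order in symplectic groups and field extension subgroups.
-/

set_option autoImplicit false

namespace Cfsg.Agent.Lib.SpExtDerange

/-- Half of the order of `q` modulo `r`, rounded to the order itself when that is odd. -/
noncomputable def halfOrd (r q : ℕ) : ℕ :=
  if Even (orderOf (q : ZMod r)) then orderOf (q : ZMod r) / 2 else orderOf (q : ZMod r)

variable {r q : ℕ}

theorem dvd_pow_sub_one_iff (hq : 0 < q) (n : ℕ) : r ∣ q ^ n - 1 ↔ orderOf (q : ZMod r) ∣ n := by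
  rw [orderOf_dvd_iff_pow_eq_one, ← Nat.modEq_iff_dvd' (Nat.one_le_pow _ _ hq),
    ← ZMod.natCast_eq_natCast_iff, Nat.cast_one, Nat.cast_pow, eq_comm]

theorem cast_ne_zero_of_not_dvd (hrq : ¬ r ∣ q) : (q : ZMod r) ≠ 0 := by
  rwa [Ne, ZMod.natCast_eq_zero_iff]

theorem orderOf_cast_pos (hr : r.Prime) (hrq : ¬ r ∣ q) : 0 < orderOf (q : ZMod r) := by
  haveI := Fact.mk hr
  exact Nat.pos_of_dvd_of_pos
    (orderOf_dvd_of_pow_eq_one (ZMod.pow_card_sub_one_eq_one (cast_ne_zero_of_not_dvd hrq)))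
    (by have := hr.two_le; omega)

theorem halfOrd_pos (hr : r.Prime) (hrq : ¬ r ∣ q) : 0 < halfOrd r q := by
  have h := orderOf_cast_pos hr hrq
  rw [halfOrd]
  split_ifs with he
  · obtain ⟨e, he⟩ := he; omega
  · exact h

theorem halfOrd_dvd (hq : 0 < q) {i : ℕ} (h : r ∣ q ^ (2 * i) - 1) : halfOrd r q ∣ i := by
  rw [dvd_pow_sub_one_iff hq] at h
  rw [halfOrd]
  split_ifs with he
  · obtain ⟨e, he⟩ := he
    rw [he, ← two_mul] at h
    rw [he, ← two_mul, Nat.mul_div_cancel_left _ two_pos]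
    exact Nat.dvd_of_mul_dvd_mul_left two_pos h
  · exact (Nat.Coprime.dvd_of_dvd_mul_left (Nat.coprime_two_right.2 (Nat.not_even_iff_odd.1 he)) h)

theorem two_mul_halfOrd_le (hr : r.Prime) (hr2 : r ≠ 2) (hrq : ¬ r ∣ q) :
    2 * halfOrd r q ≤ r - 1 := by
  haveI := Fact.mk hr
  have hd : orderOf (q : ZMod r) ∣ r - 1 :=
    orderOf_dvd_of_pow_eq_one (ZMod.pow_card_sub_one_eq_one (cast_ne_zero_of_not_dvd hrq))
  have h1 : 0 < r - 1 := by have := hr.two_le; omega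
  rw [halfOrd]
  split_ifs with he
  · obtain ⟨e, he⟩ := he
    have := Nat.le_of_dvd h1 hd
    omega
  · refine Nat.le_of_dvd h1 (Nat.Coprime.mul_dvd_of_dvd_of_dvd
      (Nat.coprime_two_left.2 (Nat.not_even_iff_odd.1 he)) ?_ hd)
    obtain ⟨e, he⟩ := hr.odd_of_ne_two hr2
    exact ⟨e, by omega⟩

theorem dvd_pow_add_one (hr : r.Prime) (hq : 0 < q) {e : ℕ} (he : orderOf (q : ZMod r) = 2 * e)
    (he0 : 0 < e) : r ∣ q ^ e + 1 := by
  have h : r ∣ q ^ (2 * e) - 1 := (dvd_pow_sub_one_iff hq _).2 he.dvd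
  rw [show q ^ (2 * e) - 1 = (q ^ e + 1) * (q ^ e - 1) by
    rw [← Nat.sq_sub_sq, one_pow, ← pow_mul, mul_comm 2]] at h
  refine (hr.dvd_mul.1 h).resolve_right fun h' => ?_
  have := Nat.le_of_dvd he0 ((dvd_pow_sub_one_iff hq _).1 h')
  omega

theorem prod_split_block {M : Type*} [CommMonoid M] (g : ℕ → M) (k c : ℕ) :
    ∏ i ∈ Finset.range ((k + 1) * c), g i =
      (∏ i ∈ Finset.range c, g ((k + 1) * i + k)) *
        ∏ i ∈ Finset.range c, ∏ l ∈ Finset.range k, g ((k + 1) * i + l) := by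
  induction c with
  | zero => simp
  | succ c ih =>
    rw [Nat.mul_succ, Finset.prod_range_add, ih, Finset.prod_range_succ _ k, Finset.prod_range_succ,
      Finset.prod_range_succ]
    rw [mul_comm (∏ l ∈ Finset.range k, g ((k + 1) * c + l))]
    exact mul_mul_mul_comm _ _ _ _

/-- A prime dividing the index of `Sp_{2c}(q^k)` in `Sp_{2kc}(q)`. -/
theorem exists_not_dvd_of_index {k c A B : ℕ} (hr : r.Prime) (hrq : ¬ r ∣ q) (hk : 1 ≤ k) (hq : 2 ≤ q)
    (h : r * ((q ^ k) ^ A * ∏ i ∈ Finset.range c, ((q ^ k) ^ (2 * (i + 1)) - 1)) ∣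
      q ^ B * ∏ i ∈ Finset.range (k * c), (q ^ (2 * (i + 1)) - 1)) :
    ∃ i, 1 ≤ i ∧ i ≤ k * c ∧ ¬ k ∣ i ∧ r ∣ q ^ (2 * i) - 1 := by
  obtain ⟨k, rfl⟩ := Nat.exists_eq_add_of_le' hk
  set g : ℕ → ℕ := fun i => q ^ (2 * (i + 1)) - 1
  have he : (∏ i ∈ Finset.range c, ((q ^ (k + 1)) ^ (2 * (i + 1)) - 1)) =
      ∏ i ∈ Finset.range c, g ((k + 1) * i + k) :=
    Finset.prod_congr rfl fun i _ => by simp only [g, ← pow_mul]; ring_nf
  rw [he, show (∏ i ∈ Finset.range ((k + 1) * c), (q ^ (2 * (i + 1)) - 1)) = _ from prod_split_block g k c] at h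
  set P := ∏ i ∈ Finset.range c, g ((k + 1) * i + k)
  have hP : 0 < P := Finset.prod_pos fun i _ => Nat.sub_pos_of_lt (Nat.one_lt_pow (by omega) (by omega))
  have h' : r * P ∣ q ^ B * (P * ∏ i ∈ Finset.range c, ∏ l ∈ Finset.range k, g ((k + 1) * i + l)) :=
    dvd_trans (mul_dvd_mul_left r (dvd_mul_left _ _)) h
  rw [mul_comm r, mul_left_comm] at h'
  obtain h'' := Nat.dvd_of_mul_dvd_mul_left hP h'
  rcases hr.dvd_mul.1 h'' with h1 | h1
  · exact absurd (hr.dvd_of_dvd_pow h1) hrq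
  obtain ⟨i, hi, h2⟩ := (Nat.Prime.prime hr).exists_mem_finset_dvd h1
  obtain ⟨l, hl, h3⟩ := (Nat.Prime.prime hr).exists_mem_finset_dvd h2
  rw [Finset.mem_range] at hi hl
  refine ⟨(k + 1) * i + l + 1, by omega, ?_, fun hd => ?_, h3⟩
  · have : (k + 1) * (i + 1) ≤ (k + 1) * c := Nat.mul_le_mul_left _ hi
    rw [Nat.mul_succ] at this
    omega
  · rw [add_assoc, Nat.dvd_add_right (dvd_mul_right _ _)] at hd
    have := Nat.le_of_dvd (by omega) hd
    omega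

/-- A prime dividing the index of `GU_d(q)` in `Sp_{2d}(q)`. -/
theorem exists_of_unitary_index {d A B : ℕ} (hr : r.Prime) (hrq : ¬ r ∣ q) (hq : 2 ≤ q)
    (h : r * (q ^ A * ∏ i ∈ Finset.range d, (if Even i then q ^ (i + 1) + 1 else q ^ (i + 1) - 1)) ∣
      q ^ B * ∏ i ∈ Finset.range d, (q ^ (2 * (i + 1)) - 1)) :
    ∃ i, 1 ≤ i ∧ i ≤ d ∧ ((Odd i ∧ r ∣ q ^ i - 1) ∨ (Even i ∧ r ∣ q ^ i + 1)) := by
  have he : (∏ i ∈ Finset.range d, (q ^ (2 * (i + 1)) - 1)) =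
      (∏ i ∈ Finset.range d, (if Even i then q ^ (i + 1) + 1 else q ^ (i + 1) - 1)) *
        ∏ i ∈ Finset.range d, (if Even i then q ^ (i + 1) - 1 else q ^ (i + 1) + 1) := by
    rw [← Finset.prod_mul_distrib]
    refine Finset.prod_congr rfl fun i _ => ?_
    have e : q ^ (2 * (i + 1)) - 1 = (q ^ (i + 1) + 1) * (q ^ (i + 1) - 1) := by
      rw [← Nat.sq_sub_sq, one_pow, ← pow_mul, mul_comm 2]
    split_ifs
    · exact e
    · rw [e, mul_comm]
  rw [he] at h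
  set P := ∏ i ∈ Finset.range d, (if Even i then q ^ (i + 1) + 1 else q ^ (i + 1) - 1)
  have hP : 0 < P := Finset.prod_pos fun i _ => by
    split_ifs
    · omega
    · exact Nat.sub_pos_of_lt (Nat.one_lt_pow (by omega) (by omega))
  have h' := dvd_trans (mul_dvd_mul_left r (dvd_mul_left P (q ^ A))) h
  rw [mul_comm r, mul_left_comm] at h'
  rcases hr.dvd_mul.1 (Nat.dvd_of_mul_dvd_mul_left hP h') with h1 | h1
  · exact absurd (hr.dvd_of_dvd_pow h1) hrq
  obtain ⟨i, hi, h2⟩ := (Nat.Prime.prime hr).exists_mem_finset_dvd h1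
  rw [Finset.mem_range] at hi
  refine ⟨i + 1, by omega, by omega, ?_⟩
  by_cases hev : Even i
  · rw [if_pos hev] at h2
    exact Or.inl ⟨hev.add_one, h2⟩
  · rw [if_neg hev] at h2
    exact Or.inr ⟨(Nat.not_even_iff_odd.1 hev).add_one, h2⟩

end Cfsg.Agent.Lib.SpExtDerange
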