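import Mathlib
import Cfsg.Agent.Lib.SympMax.Basic

/-!
Elements of prime order normalising a field of matrices.
-/

set_option autoImplicit false

namespace Cfsg.Agent.Lib.SpExtDerange

open Matrix

variable {F : Type*} [Field F] {ι : Type} [Fintype ι] [DecidableEq ι] {k : ℕ}
  {K : Subalgebra F (Matrix ι ι F)}

/-- A field of matrices of degree at least two contains a non-scalar. -/
theorem exists_nonscalar (hK : Cfsg.Geo.IsFieldSubalgebra k K) (hk : 2 ≤ k) :
    ∃ a ∈ K, ∀ c : F, a ≠ c • (1 : Matrix ι ι F) := by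
  by_contra hno
  push Not at hno
  have hle : Subalgebra.toSubmodule K ≤ Submodule.span F {(1 : Matrix ι ι F)} := fun x hx => by
    obtain ⟨c, rfl⟩ := hno x hx
    exact Submodule.smul_mem _ c (Submodule.mem_span_singleton_self _)
  have h1 := Submodule.finrank_mono hle
  rw [Subalgebra.finrank_toSubmodule, hK.finrank_eq] at h1
  have h2 := finrank_span_le_card (R := F) ({(1 : Matrix ι ι F)} : Set (Matrix ι ι F))
  simp only [Set.toFinset_singleton, Finset.card_singleton] at h2
  omega

theorem eq_zero_of_mulVec (hK : Cfsg.Geo.IsFieldSubalgebra k K) {a : Matrix ι ι F} (ha : a ∈ K)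
    {v : ι → F} (hv : v ≠ 0) (h : a *ᵥ v = 0) : a = 0 := by
  by_contra h0
  obtain ⟨b, -, hb⟩ := hK.inv a ha h0
  refine hv ?_
  have h' := congrArg (b *ᵥ ·) h
  simpa [mulVec_mulVec, mul_eq_one_comm.1 hb] using h'

/-- A normalising element conjugates the field into itself. -/
theorem exists_conj {g : GL ι F} (hg : g ∈ Cfsg.Geo.subalgebraNormalizer K) {a : Matrix ι ι F}
    (ha : a ∈ K) : ∃ a' ∈ K, (g : Matrix ι ι F) * a = a' * (g : Matrix ι ι F) :=
  ⟨_, (hg a).1 ha, by rw [mul_assoc _ _ (g : Matrix ι ι F), ← Units.val_mul, inv_mul_cancel,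
    Units.val_one, mul_one]⟩

/-- Enough for membership in the normaliser. -/
theorem mem_normalizer_of_maps [Finite F] {g : GL ι F}
    (h : ∀ a ∈ K, (g : Matrix ι ι F) * a * ((g⁻¹ : GL ι F) : Matrix ι ι F) ∈ K) :
    g ∈ Cfsg.Geo.subalgebraNormalizer K := by
  haveI : Finite (Matrix ι ι F) := inferInstanceAs (Finite (ι → ι → F))
  haveI : Finite K := Finite.of_injective _ Subtype.val_injective
  intro a
  refine ⟨h a, fun ha => ?_⟩
  let φ : K → K := fun x => ⟨_, h x x.2⟩
  have hφ : Function.Injective φ := fun x y hxy => Subtype.ext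
    ((Units.mul_right_inj g).mp ((Units.mul_left_inj g⁻¹).mp (congrArg Subtype.val hxy)))
  obtain ⟨x, hx⟩ := Finite.surjective_of_injective hφ ⟨_, ha⟩
  exact ((Units.mul_right_inj g).mp ((Units.mul_left_inj g⁻¹).mp (congrArg Subtype.val hx))) ▸ x.2

/-- Elements of prime order normalising the field centralise it, unless the order is the degree. -/
theorem comm_or_eq [Finite F] [Nonempty ι] (hK : Cfsg.Geo.IsFieldSubalgebra k K) {r : ℕ}
    (hr : r.Prime) (hk : k.Prime) {g : GL ι F} (hg : g ∈ Cfsg.Geo.subalgebraNormalizer K)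
    (hgr : ∀ a ∈ K, ((g ^ r : GL ι F) : Matrix ι ι F) * a = a * ((g ^ r : GL ι F) : Matrix ι ι F)) :
    (∀ a ∈ K, (g : Matrix ι ι F) * a = a * (g : Matrix ι ι F)) ∨ r = k := by
  classical
  haveI : Finite (Matrix ι ι F) := inferInstanceAs (Finite (ι → ι → F))
  haveI : Nontrivial K := ⟨⟨1, 0, fun h => one_ne_zero (congrArg Subtype.val h)⟩⟩
  letI : Field K :=
    IsField.toField
      { exists_pair_ne := exists_pair_ne K
        mul_comm := fun x y => Subtype.ext (hK.comm x x.2 y y.2)
        mul_inv_cancel := fun {x} hx => by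
          obtain ⟨y, hy, hxy⟩ := hK.inv x x.2 (fun h => hx (Subtype.ext h))
          exact ⟨⟨y, hy⟩, Subtype.ext hxy⟩ }
  haveI : Finite K := Finite.of_injective _ Subtype.val_injective
  let φ : K →ₐ[F] K :=
    { toFun := fun a => ⟨_, (hg a).1 a.2⟩
      map_one' := Subtype.ext (by simp)
      map_mul' := fun a b => Subtype.ext (by
        simp only [Subalgebra.coe_mul]
        simp [mul_assoc])
      map_zero' := Subtype.ext (by simp)
      map_add' := fun a b => Subtype.ext (by simp [mul_add, add_mul])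
      commutes' := fun c => Subtype.ext (by simp [Algebra.algebraMap_eq_smul_one]) }
  let c : K ≃ₐ[F] K := AlgEquiv.ofBijective φ (Finite.injective_iff_bijective.1 φ.toRingHom.injective)
  by_cases hc : c = 1
  · refine Or.inl fun a ha => ?_
    have h := congrArg (fun e : K ≃ₐ[F] K => ((e ⟨a, ha⟩ : K) : Matrix ι ι F)) hc
    change (g : Matrix ι ι F) * a * ((g⁻¹ : GL ι F) : Matrix ι ι F) = a at h
    calc (g : Matrix ι ι F) * a
        = (g : Matrix ι ι F) * a * ((g⁻¹ : GL ι F) : Matrix ι ι F) * g := by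
          rw [mul_assoc _ _ (g : Matrix ι ι F), ← Units.val_mul, inv_mul_cancel, Units.val_one, mul_one]
      _ = a * g := by rw [h]
  refine Or.inr ?_
  have hpow : ∀ (n : ℕ) (a : K), (((c ^ n) a : K) : Matrix ι ι F) =
      ((g ^ n : GL ι F) : Matrix ι ι F) * a * (((g ^ n)⁻¹ : GL ι F) : Matrix ι ι F) := by
    intro n a
    induction n generalizing a with
    | zero => simp
    | succ n ih =>
      rw [pow_succ, AlgEquiv.mul_apply, ih (c a), pow_succ, _root_.mul_inv_rev, Units.val_mul, Units.val_mul]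
      show _ * ((g : Matrix ι ι F) * a * ((g⁻¹ : GL ι F) : Matrix ι ι F)) * _ = _
      simp only [mul_assoc]
  have hcr : c ^ r = 1 := AlgEquiv.ext fun a => Subtype.ext (by
    rw [hpow, hgr a a.2, mul_assoc, ← Units.val_mul, mul_inv_cancel, Units.val_one, mul_one]
    rfl)
  haveI := Fact.mk hr
  have ho := orderOf_eq_prime hcr hc
  have hd := orderOf_dvd_natCard c
  rw [ho, IsGalois.card_aut_eq_finrank, hK.finrank_eq] at hd
  exact (Nat.prime_dvd_prime_iff_eq hr hk).1 hd

/-- `1 +` rank one does not normalise a field in dimension more than two. -/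
theorem not_mem_normalizer_rank_one (hK : Cfsg.Geo.IsFieldSubalgebra k K) (hk : 2 ≤ k)
    (hn : 2 < Fintype.card ι) (g : GL ι F) (hg : g ∈ Cfsg.Geo.subalgebraNormalizer K)
    (φ : (ι → F) →ₗ[F] F) (u : ι → F) (hu : u ≠ 0) (hφ : φ ≠ 0)
    (hgv : ∀ v, (g : Matrix ι ι F) *ᵥ v = v + φ v • u) : False := by
  obtain ⟨a, ha, hns⟩ := exists_nonscalar hK hk
  obtain ⟨a', ha', hga⟩ := exists_conj hg ha
  have hrel : ∀ v, (a' - a) *ᵥ v = φ (a *ᵥ v) • u - φ v • (a' *ᵥ u) := by
    intro v
    have h := congrArg (· *ᵥ v) hga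
    simp only [← mulVec_mulVec, hgv, mulVec_add, mulVec_smul] at h
    rw [sub_mulVec]
    linear_combination (norm := module) -h
  by_cases h0 : a' - a = 0
  · obtain ⟨v, hv⟩ : ∃ v, φ v ≠ 0 := by
      by_contra h
      push Not at h
      exact hφ (LinearMap.ext h)
    have h := hrel v
    rw [h0, zero_mulVec, sub_eq_zero.mp h0] at h
    have h' : (a - (φ (a *ᵥ v) / φ v) • 1) *ᵥ u = 0 := by
      rw [sub_mulVec, smul_mulVec, one_mulVec]
      apply smul_right_injective _ hv
      simp only [smul_sub, smul_smul, smul_zero]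
      rw [mul_div_cancel₀ _ hv]
      linear_combination (norm := module) h
    exact hns _ (sub_eq_zero.mp
      (eq_zero_of_mulVec hK (sub_mem ha (Subalgebra.smul_mem _ K.one_mem _)) hu h'))
  · obtain ⟨b, -, hb⟩ := hK.inv _ (sub_mem ha' ha) h0
    have hle : (⊤ : Submodule F (ι → F)) ≤ Submodule.span F (Set.range ![u, a' *ᵥ u]) := by
      intro w _
      have h := hrel (b *ᵥ w)
      rw [mulVec_mulVec, hb, one_mulVec] at h
      rw [h]
      exact sub_mem (Submodule.smul_mem _ _ (Submodule.subset_span ⟨0, rfl⟩))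
        (Submodule.smul_mem _ _ (Submodule.subset_span ⟨1, rfl⟩))
    have h1 := Submodule.finrank_mono hle
    have h2 := finrank_range_le_card (R := F) (![u, a' *ᵥ u])
    rw [finrank_top, Module.finrank_fintype_fun_eq_card] at h1
    simp only [Fintype.card_fin] at h2
    rw [Set.finrank] at h2
    omega

/-- The fixed vectors of a matrix. -/
def fixSp (A : Matrix ι ι F) : Submodule F (ι → F) := LinearMap.ker (A - 1).mulVecLin

theorem mem_fixSp {A : Matrix ι ι F} {v : ι → F} : v ∈ fixSp A ↔ A *ᵥ v = v := by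
  rw [fixSp, LinearMap.mem_ker, mulVecLin_apply, sub_mulVec, one_mulVec, sub_eq_zero]

theorem finrank_fixSp_add_rank (A : Matrix ι ι F) :
    Module.finrank F (fixSp A) + (A - 1).rank = Fintype.card ι := by
  rw [fixSp, Matrix.rank, add_comm, LinearMap.finrank_range_add_finrank_ker,
    Module.finrank_fintype_fun_eq_card]

theorem finrank_fixSp_conj (g x : GL ι F) :
    Module.finrank F (fixSp ((g⁻¹ * x * g : GL ι F) : Matrix ι ι F)) =
      Module.finrank F (fixSp (x : Matrix ι ι F)) := by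
  have h1 := finrank_fixSp_add_rank ((g⁻¹ * x * g : GL ι F) : Matrix ι ι F)
  have h2 := finrank_fixSp_add_rank (x : Matrix ι ι F)
  have e : ((g⁻¹ * x * g : GL ι F) : Matrix ι ι F) - 1 =
      ((g⁻¹ : GL ι F) : Matrix ι ι F) * ((x : Matrix ι ι F) - 1) * (g : Matrix ι ι F) := by
    rw [mul_sub, sub_mul, mul_one, Units.val_mul, Units.val_mul, ← Units.val_mul g⁻¹ g, inv_mul_cancel,
      Units.val_one]
  rw [e, rank_mul_eq_left_of_isUnit_det _ _ ((isUnit_iff_isUnit_det _).1 g.isUnit),
    rank_mul_eq_right_of_isUnit_det _ _ ((isUnit_iff_isUnit_det _).1 (g⁻¹).isUnit)] at h1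
  omega

/-- A semilinear element moves at least half of the space. -/
theorem two_mul_fixSp_le (hK : Cfsg.Geo.IsFieldSubalgebra k K) {g : GL ι F}
    (hg : g ∈ Cfsg.Geo.subalgebraNormalizer K) {a : Matrix ι ι F} (ha : a ∈ K)
    (hne : (g : Matrix ι ι F) * a ≠ a * (g : Matrix ι ι F)) :
    2 * Module.finrank F (fixSp (g : Matrix ι ι F)) ≤ Fintype.card ι := by
  obtain ⟨a', ha', hga⟩ := exists_conj hg ha
  have h0 : a' - a ≠ 0 := fun h => hne (by rw [hga, sub_eq_zero.1 h])
  have hinj : Function.Injective a.mulVecLin := fun v w h => by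
    by_contra hvw
    have h1 : a *ᵥ (v - w) = 0 := by rw [mulVec_sub]; exact sub_eq_zero.2 h
    exact hne (by rw [eq_zero_of_mulVec hK ha (sub_ne_zero.2 hvw) h1, mul_zero, zero_mul])
  have hdis : Disjoint (fixSp (g : Matrix ι ι F)) ((fixSp (g : Matrix ι ι F)).map a.mulVecLin) := by
    rw [Submodule.disjoint_def]
    rintro v hv ⟨w, hw, rfl⟩
    by_contra hne'
    refine h0 (eq_zero_of_mulVec hK (sub_mem ha' ha) (v := w) (fun e => hne' (by simp [e])) ?_)
    have h := congrArg (· *ᵥ w) hga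
    simp only [← mulVec_mulVec, mem_fixSp.1 hw] at h
    rw [sub_mulVec, sub_eq_zero, ← h]
    exact mem_fixSp.1 hv
  have h := Submodule.finrank_add_finrank_le_of_disjoint hdis
  rw [← (Submodule.equivMapOfInjective _ hinj _).finrank_eq, Module.finrank_fintype_fun_eq_card] at h
  omega

/-- An involution anticommuting with an invertible matrix has equal eigenspaces. -/
theorem finrank_fixSp_neg {g b b' : Matrix ι ι F} (hb : b' * b = 1) (hanti : g * b = -(b * g)) :
    Module.finrank F (fixSp g) = Module.finrank F (fixSp (-g)) := by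
  have key : ∀ h : Matrix ι ι F, h * b = -(b * h) →
      Module.finrank F (fixSp h) ≤ Module.finrank F (fixSp (-h)) := by
    intro h hh
    have hinj : Function.Injective b.mulVecLin := fun v w hvw => by
      have h' := congrArg (b' *ᵥ ·) hvw
      simpa [mulVec_mulVec, hb] using h'
    rw [(Submodule.equivMapOfInjective _ hinj (fixSp h)).finrank_eq]
    refine Submodule.finrank_mono ?_
    rintro _ ⟨v, hv, rfl⟩
    rw [mem_fixSp, mulVecLin_apply, neg_mulVec, mulVec_mulVec, hh, neg_mulVec, neg_neg, ← mulVec_mulVec,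
      mem_fixSp.1 hv]
  exact le_antisymm (key g hanti) (((key (-g) (by rw [neg_mul, hanti, mul_neg])).trans (by rw [neg_neg])))

/-! ### Symplectic forms -/

variable {m : ℕ}

local notation "Vs" => (Fin m ⊕ Fin m → F)
local notation "Ms" => Matrix (Fin m ⊕ Fin m) (Fin m ⊕ Fin m) F

theorem form_finset_sum_right {α : Type*} (s : Finset α) (u : Vs) (z : α → Vs) :
    Cfsg.sympForm m F u (∑ i ∈ s, z i) = ∑ i ∈ s, Cfsg.sympForm m F u (z i) := by
  classical
  induction s using Finset.induction with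
  | empty =>
    simpa using SympMax.form_smul_right (0 : F) u (0 : Vs)
  | insert a s ha ih => rw [Finset.sum_insert ha, Finset.sum_insert ha, SympMax.form_add_right, ih]

theorem pow_form {A : Ms} (hA : ∀ u v, Cfsg.sympForm m F (A *ᵥ u) (A *ᵥ v) = Cfsg.sympForm m F u v)
    (n : ℕ) (u v : Vs) : Cfsg.sympForm m F ((A ^ n) *ᵥ u) ((A ^ n) *ᵥ v) = Cfsg.sympForm m F u v := by
  induction n with
  | zero => simp
  | succ n ih => rw [pow_succ', ← mulVec_mulVec, ← mulVec_mulVec, hA, ih]

/-- The fixed space of a semisimple isometry is non-degenerate. -/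
theorem fixSp_nondeg {A : Ms} (hA : ∀ u v, Cfsg.sympForm m F (A *ᵥ u) (A *ᵥ v) = Cfsg.sympForm m F u v)
    {r : ℕ} (hr : (r : F) ≠ 0) (hAr : A ^ r = 1) {v : Vs} (hv : v ∈ fixSp A)
    (h : ∀ w ∈ fixSp A, Cfsg.sympForm m F v w = 0) : v = 0 := by
  by_contra hv0
  obtain ⟨u, hu⟩ := SympMax.exists_form_ne hv0
  have hvi : ∀ i : ℕ, (A ^ i) *ᵥ v = v := by
    intro i
    induction i with
    | zero => simp
    | succ i ih => rw [pow_succ, ← mulVec_mulVec, mem_fixSp.1 hv, ih]
  have hw : ∑ i ∈ Finset.range r, (A ^ i) *ᵥ u ∈ fixSp A := by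
    rw [mem_fixSp, mulVec_sum]
    simp only [mulVec_mulVec, ← pow_succ']
    have h1 := Finset.sum_range_succ (fun i => (A ^ i) *ᵥ u) r
    rw [Finset.sum_range_succ' (fun i => (A ^ i) *ᵥ u) r, hAr, pow_zero] at h1
    exact add_right_cancel h1
  have h0 := h _ hw
  rw [form_finset_sum_right] at h0
  have hterm : ∀ i : ℕ, Cfsg.sympForm m F v ((A ^ i) *ᵥ u) = Cfsg.sympForm m F v u := fun i => by
    conv_lhs => rw [← hvi i]
    exact pow_form hA i v u
  simp only [hterm, Finset.sum_const, Finset.card_range, nsmul_eq_mul] at h0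
  exact hu ((mul_eq_zero.1 h0).resolve_left hr)

end Cfsg.Agent.Lib.SpExtDerange
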