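import Cfsg.Agent.Lib.SpExtDerange.Witnesses
import Cfsg.Agent.Lib.SpExtDerange.Frames
import Cfsg.Agent.Lib.SpExtDerange.AntiAdj

/-!
Involutions inside the normaliser of a self-adjoint quadratic field in dimension four.
-/

set_option autoImplicit false

namespace Cfsg.Agent.Lib.SpExtDerange

open Matrix

variable {F : Type*} [Field F]

/-- The model of a self-adjoint square root of `δ` in dimension four. -/
def stdSelf (δ : F) : Matrix (Fin 2 ⊕ Fin 2) (Fin 2 ⊕ Fin 2) F :=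
  fromBlocks !![0, 1; δ, 0] 0 0 !![0, δ; 1, 0]

theorem exists_self_frame (j : Matrix (Fin 2 ⊕ Fin 2) (Fin 2 ⊕ Fin 2) F) {δ : F}
    (hjj : j * j = δ • 1) (hns : ∀ s : F, s * s ≠ δ)
    (hadj : ∀ u v, Cfsg.sympForm 2 F (j *ᵥ u) v = Cfsg.sympForm 2 F u (j *ᵥ v))
    (halt : ∀ v, Cfsg.sympForm 2 F (j *ᵥ v) v = 0) :
    ∃ h : GL (Fin 2 ⊕ Fin 2) F, h ∈ Cfsg.spGL 2 F ∧
      j * (h : Matrix (Fin 2 ⊕ Fin 2) (Fin 2 ⊕ Fin 2) F) =
        (h : Matrix (Fin 2 ⊕ Fin 2) (Fin 2 ⊕ Fin 2) F) * stdSelf δ := by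
  classical
  have hδ : δ ≠ 0 := fun e => hns 0 (by rw [mul_zero, e])
  have hjjv : ∀ x, j *ᵥ (j *ᵥ x) = δ • x := fun x => by rw [mulVec_mulVec, hjj, smul_mulVec, one_mulVec]
  have halt' : ∀ v, Cfsg.sympForm 2 F v (j *ᵥ v) = 0 := fun v => by rw [← hadj]; exact halt v
  set e : Fin 2 ⊕ Fin 2 → F := Pi.single (Sum.inl 0) 1
  have he : e ≠ 0 := by simp [e]
  obtain ⟨u, hu⟩ := SympMax.exists_form_ne he
  set P := Cfsg.sympForm 2 F e u
  set Q := Cfsg.sympForm 2 F e (j *ᵥ u)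
  have hD : δ * (P * P) - Q * Q ≠ 0 := fun h => hns (Q / P) (by
    field_simp
    linear_combination -h)
  set D := δ * (P * P) - Q * Q
  set z := (δ * P / D) • u + (-Q / D) • (j *ᵥ u)
  have hez : Cfsg.sympForm 2 F e z = 1 := by
    simp only [z, SympMax.form_add_right, SympMax.form_smul_right]
    show δ * P / D * P + -Q / D * Q = 1
    field_simp
    simp only [D]
    ring
  have hejz : Cfsg.sympForm 2 F (j *ᵥ e) z = 0 := by
    rw [hadj]
    simp only [z, mulVec_add, mulVec_smul, hjjv, SympMax.form_add_right, SympMax.form_smul_right]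
    show δ * P / D * Q + -Q / D * (δ * P) = 0
    ring
  have hejz' : Cfsg.sympForm 2 F e (j *ᵥ z) = 0 := by rw [← hadj]; exact hejz
  have hp : IsPairing (![e, j *ᵥ e] : Fin 2 → _) (![z, δ⁻¹ • (j *ᵥ z)] : Fin 2 → _) := by
    refine ⟨fun a b => ?_, fun a b => ?_, fun a b => ?_⟩ <;> fin_cases a <;> fin_cases b <;>
      simp [Forms.sympForm_self, halt, halt', hez, hejz, hejz', SympMax.form_smul_right,
        SympMax.form_smul_left]
    rw [hadj, hjjv, SympMax.form_smul_right, hez, mul_one, inv_mul_cancel₀ hδ]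
  obtain ⟨h, hh, hv, hw⟩ := exists_gl_of_pairing hp
  refine ⟨h, hh, ext_single (fun i => ?_) fun i => ?_⟩
  · rw [← mulVec_mulVec, ← mulVec_mulVec, hv]
    have e0 : stdSelf δ *ᵥ Pi.single (Sum.inr (0 : Fin 2)) 1 = Pi.single (Sum.inr 1) 1 := by
      ext (a | a) <;> fin_cases a <;> simp [stdSelf]
    have e1 : stdSelf δ *ᵥ Pi.single (Sum.inr (1 : Fin 2)) 1 = δ • Pi.single (Sum.inr 0) 1 := by
      ext (a | a) <;> fin_cases a <;> simp [stdSelf]
    fin_cases i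
    · simp only [Fin.zero_eta]; rw [e0, hv]; rfl
    · simp only [Fin.mk_one]; rw [e1, mulVec_smul, hv]; exact hjjv e
  · rw [← mulVec_mulVec, ← mulVec_mulVec, hw]
    have e0 : stdSelf δ *ᵥ Pi.single (Sum.inl (0 : Fin 2)) 1 = δ • Pi.single (Sum.inl 1) 1 := by
      ext (a | a) <;> fin_cases a <;> simp [stdSelf]
    have e1 : stdSelf δ *ᵥ Pi.single (Sum.inl (1 : Fin 2)) 1 = Pi.single (Sum.inl 0) 1 := by
      ext (a | a) <;> fin_cases a <;> simp [stdSelf]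
    fin_cases i
    · simp only [Fin.zero_eta]; rw [e0, mulVec_smul, hw]; simp [smul_smul, mul_inv_cancel₀ hδ]
    · simp only [Fin.mk_one]; rw [e1, hw]; simp [mulVec_smul, hjjv, smul_smul, inv_mul_cancel₀ hδ]

/-- An off-diagonal symplectic square root of `-1`. -/
theorem offDiag_mem_sp {m : ℕ} (v : Fin m → F) (hv : ∀ i, v i ≠ 0) :
    fromBlocks 0 (diagonal v) (-diagonal fun i => (v i)⁻¹) 0 ∈ Matrix.symplecticGroup (Fin m) F := by
  rw [SymplecticGroup.mem_iff', Matrix.J, fromBlocks_transpose, fromBlocks_multiply, fromBlocks_multiply]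
  simp [diagonal_mul_diagonal, hv, ← diagonal_one]

/-- Every element of order two modulo scalars fixes a point, in dimension four over a quadratic field. -/
theorem allNorm_two [Fintype F] (h2 : (2 : F) ≠ 0) (K : Subalgebra F (Matrix (Fin 2 ⊕ Fin 2) (Fin 2 ⊕ Fin 2) F))
    (hK : Cfsg.Geo.IsFieldSubalgebra 2 K) (hsa : Cfsg.Geo.IsSelfAdjointFor (Cfsg.sympForm 2 F) K)
    (halt : ∀ a ∈ K, ∀ v, Cfsg.sympForm 2 F (a *ᵥ v) v = 0) : AllNorm K 2 := by
  classical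
  obtain ⟨j, δ, hjK, hjj, hns, hspan⟩ := ExtFieldMax.SympQuadNorm.exists_root_gen h2 K hK
  have hδ : δ ≠ 0 := fun e => hns 0 (by rw [mul_zero, e])
  obtain ⟨h, hh, hjh⟩ := exists_self_frame j hjj hns (hsa j hjK) (halt j hjK)
  intro x hx hxz hxns
  obtain ⟨z, hz⟩ := hxz
  have hxx : (x : Matrix (Fin 2 ⊕ Fin 2) (Fin 2 ⊕ Fin 2) F) * x = z • 1 := by
    rw [← hz, sq, Units.val_mul]
  have key : ∀ (S : Matrix (Fin 2 ⊕ Fin 2) (Fin 2 ⊕ Fin 2) F) (e : F), S * stdSelf δ = e • (stdSelf δ * S) →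
      ((h : Matrix (Fin 2 ⊕ Fin 2) (Fin 2 ⊕ Fin 2) F) * S * ((h⁻¹ : GL (Fin 2 ⊕ Fin 2) F) : Matrix (Fin 2 ⊕ Fin 2) (Fin 2 ⊕ Fin 2) F)) * j =
        e • (j * ((h : Matrix (Fin 2 ⊕ Fin 2) (Fin 2 ⊕ Fin 2) F) * S * ((h⁻¹ : GL (Fin 2 ⊕ Fin 2) F) : Matrix (Fin 2 ⊕ Fin 2) (Fin 2 ⊕ Fin 2) F))) := by
    intro S e hS
    set H := (h : Matrix (Fin 2 ⊕ Fin 2) (Fin 2 ⊕ Fin 2) F)
    set Hi := ((h⁻¹ : GL (Fin 2 ⊕ Fin 2) F) : Matrix (Fin 2 ⊕ Fin 2) (Fin 2 ⊕ Fin 2) F)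
    have hi : Hi * H = 1 := by rw [← Units.val_mul, inv_mul_cancel, Units.val_one]
    have hi' : H * Hi = 1 := by rw [← Units.val_mul, mul_inv_cancel, Units.val_one]
    have hjH : j = H * stdSelf δ * Hi := by rw [← hjh, mul_assoc, hi', mul_one]
    calc H * S * Hi * j = H * (S * stdSelf δ) * Hi := by
          rw [hjH]; simp only [mul_assoc]; rw [← mul_assoc Hi H, hi, one_mul]
      _ = _ := by
          rw [hS, mul_smul_comm, smul_mul_assoc, hjH]
          simp only [mul_assoc]; rw [← mul_assoc Hi H, hi, one_mul]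
  rcases sq_scalar_cases hx hz with rfl | rfl
  · rw [one_smul] at hxx
    obtain ⟨g1, e, hg1, he, hxg⟩ := exists_sign_frame h2 _ hxx (form_spGL hx)
    have he01 : e 1 = -e 0 := by
      rcases he 0 with h0 | h0 <;> rcases he 1 with h1 | h1 <;> rw [h0, h1] <;> try simp
      all_goals
        exfalso
        refine hxns (e 0) ?_
        have hee : stdSign e = e 0 • (1 : Matrix (Fin 2 ⊕ Fin 2) (Fin 2 ⊕ Fin 2) F) := by
          rw [stdSign, smul_one_eq_diagonal]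
          congr 1
          funext a
          rcases a with a | a <;> fin_cases a <;> simp [h0, h1]
        rw [hee, mul_smul_comm, mul_one, ← one_mul (g1 : Matrix (Fin 2 ⊕ Fin 2) (Fin 2 ⊕ Fin 2) F),
          ← smul_mul_assoc, ← mul_assoc, mul_one] at hxg
        exact g1.isUnit.mul_right_cancel hxg
    refine ⟨g1 * h⁻¹, mul_mem hg1 (inv_mem hh), mem_normalizer_of_gen hjK hspan (e := -1) ?_⟩
    have hval : (((g1 * h⁻¹)⁻¹ * x * (g1 * h⁻¹) : GL (Fin 2 ⊕ Fin 2) F) : Matrix (Fin 2 ⊕ Fin 2) (Fin 2 ⊕ Fin 2) F) =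
        (h : Matrix (Fin 2 ⊕ Fin 2) (Fin 2 ⊕ Fin 2) F) * stdSign e *
          ((h⁻¹ : GL (Fin 2 ⊕ Fin 2) F) : Matrix (Fin 2 ⊕ Fin 2) (Fin 2 ⊕ Fin 2) F) := by
      rw [← conj_eq g1 hxg]
      simp [mul_assoc]
    rw [hval]
    refine key _ _ ?_
    rw [stdSign, stdSelf, show diagonal (Sum.elim e e) = fromBlocks (diagonal e) 0 0 (diagonal e) from
      (fromBlocks_diagonal e e).symm, fromBlocks_multiply, fromBlocks_multiply, fromBlocks_smul]
    congr 1 <;> ext a b <;> fin_cases a <;> fin_cases b <;> simp [vecMul_diagonal, mul_diagonal, diagonal_mul, he01] <;> ring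
  · set D : Fin 2 → F := ![1, δ]
    have hD : ∀ i, D i ≠ 0 := fun i => by fin_cases i <;> simp [D, hδ]
    set Y := fromBlocks 0 (diagonal D) (-diagonal fun i => (D i)⁻¹) 0
    have hY := offDiag_mem_sp D hD
    have hYY : Y * Y = (-1 : F) • 1 := by
      rw [fromBlocks_multiply, ← fromBlocks_one, fromBlocks_smul]
      simp [diagonal_mul_diagonal, hD, ← diagonal_one]
    set y := h * SpTensorDerange.spUnit hY * h⁻¹ with hy
    have hymem : y ∈ Cfsg.spGL 2 F := mul_mem (mul_mem hh (SpTensorDerange.spUnit_mem hY)) (inv_mem hh)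
    have hyv : (y : Matrix (Fin 2 ⊕ Fin 2) (Fin 2 ⊕ Fin 2) F) =
        (h : Matrix (Fin 2 ⊕ Fin 2) (Fin 2 ⊕ Fin 2) F) * Y *
          ((h⁻¹ : GL (Fin 2 ⊕ Fin 2) F) : Matrix (Fin 2 ⊕ Fin 2) (Fin 2 ⊕ Fin 2) F) := by
      rw [hy, Units.val_mul, Units.val_mul]; rfl
    have hyy : (y : Matrix (Fin 2 ⊕ Fin 2) (Fin 2 ⊕ Fin 2) F) * y = (-1 : F) • 1 := by
      rw [hyv]
      simp only [mul_assoc]
      rw [← mul_assoc ((h⁻¹ : GL (Fin 2 ⊕ Fin 2) F) : Matrix (Fin 2 ⊕ Fin 2) (Fin 2 ⊕ Fin 2) F),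
        ← Units.val_mul h⁻¹ h, inv_mul_cancel, Units.val_one, one_mul, ← mul_assoc Y, hYY, smul_mul_assoc,
        one_mul, mul_smul_comm, ← Units.val_mul, mul_inv_cancel, Units.val_one]
    obtain ⟨g, hg, hgx⟩ := exists_anti_conj h2 (neg_ne_zero.2 one_ne_zero) _ _ hxx
      (anti_of_sq (form_spGL hx) hxx) hyy (anti_of_sq (form_spGL hymem) hyy)
    refine ⟨g, hg, mem_normalizer_of_gen hjK hspan (e := 1) ?_⟩
    rw [Units.val_mul, Units.val_mul, conj_eq g hgx, hyv]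
    refine key _ _ ?_
    rw [one_smul, stdSelf, fromBlocks_multiply, fromBlocks_multiply]
    congr 1 <;> ext a b <;> fin_cases a <;> fin_cases b <;> simp [D, vecMul_diagonal, mul_diagonal, diagonal_mul, hδ, Matrix.vecHead, Matrix.vecTail]

end Cfsg.Agent.Lib.SpExtDerange
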