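import Cfsg.Agent.Lib.SympExt.Basic
import Cfsg.Agent.Lib.Semisimple.SympDarboux
import Cfsg.Agent.Lib.Classical.Symplectic
import Cfsg.Agent.Lib.Forms.Bridge
import Cfsg.Agent.Lib.SympMax.Basic
import Cfsg.Agent.Lib.SpExtDerange.Basic

/-!
A self-adjoint field of matrices: dimensions of invariant non-degenerate subspaces and the order of its centraliser.
-/

set_option autoImplicit false
set_option linter.style.haveILetI false

namespace Cfsg.Agent.Lib.SpExtDerange

open Matrix SympExt

section EData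

variable {F E V : Type*} [Field F] [Field E] [Algebra F E] [AddCommGroup V] [Module F V] [Module E V]
  [IsScalarTower F E V] {B : LinearMap.BilinForm F V}

/-- A symplectic basis over the field. -/
theorem exists_darboux [Finite E] [FiniteDimensional E V] (D : EData E B) :
    ∃ c : ℕ, Module.finrank E V = c + c ∧ ∃ Φ : (Fin c ⊕ Fin c → E) ≃ₗ[E] V,
      ∀ u v, D.BE (Φ u) (Φ v) = Cfsg.sympForm c E u v := by
  classical
  let b := Module.finBasis E V
  let H : Matrix (Fin (Module.finrank E V)) (Fin (Module.finrank E V)) E :=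
    LinearMap.BilinForm.toMatrix b D.form
  have hval : ∀ u v, u ⬝ᵥ H *ᵥ v = D.BE (b.equivFun.symm u) (b.equivFun.symm v) := by
    intro u v
    have h := LinearMap.BilinForm.apply_eq_dotProduct_toMatrix_mulVec (b := b) D.form (b.equivFun.symm u)
      (b.equivFun.symm v)
    rw [show ⇑(b.repr (b.equivFun.symm u)) = u from b.equivFun.apply_symm_apply u,
      show ⇑(b.repr (b.equivFun.symm v)) = v from b.equivFun.apply_symm_apply v] at h
    exact h.symm
  have hH : Semisimple.IsAltMat H := fun v => by rw [hval, D.BE_self]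
  have hu : IsUnit H := by
    rw [Matrix.isUnit_iff_isUnit_det, isUnit_iff_ne_zero]
    refine (LinearMap.BilinForm.nondegenerate_iff_det_ne_zero b).1 ?_
    exact ⟨fun z hz => D.BE_nondeg hz, fun z hz => D.BE_nondeg fun v => by
      rw [D.BE_comm, show D.BE v z = 0 from hz v, neg_zero]⟩
  obtain ⟨c, hc, Q, R, hQR, hRQ, hQ⟩ := Semisimple.darboux H hH hu
  let Ψ : (Fin c ⊕ Fin c → E) ≃ₗ[E] (Fin (Module.finrank E V) → E) :=
    LinearEquiv.ofLinear R.mulVecLin Q.mulVecLin
      (by rw [← Matrix.mulVecLin_mul, hRQ, Matrix.mulVecLin_one])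
      (by rw [← Matrix.mulVecLin_mul, hQR, Matrix.mulVecLin_one])
  refine ⟨c, hc.symm, Ψ.trans b.equivFun.symm, fun u v => ?_⟩
  show D.BE (b.equivFun.symm (R *ᵥ u)) (b.equivFun.symm (R *ᵥ v)) = _
  rw [← hval, ← hQ, Semisimple.bilin_congr, mulVec_mulVec u Q R, mulVec_mulVec v Q R, hQR, one_mulVec, one_mulVec]
  rfl

/-- The dimension is an even multiple of the degree. -/
theorem two_mul_finrank_dvd [Finite E] [FiniteDimensional E V] (D : EData E B) :
    2 * Module.finrank F E ∣ Module.finrank F V := by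
  obtain ⟨c, hc, -⟩ := exists_darboux D
  exact ⟨c, by rw [← Module.finrank_mul_finrank F E V, hc]; ring⟩

end EData

variable {F : Type*} [Field F] [Fintype F] {m k : ℕ}

local notation "Vs" => (Fin m ⊕ Fin m → F)
local notation "Ms" => Matrix (Fin m ⊕ Fin m) (Fin m ⊕ Fin m) F

/-- The fixed space of a linear semisimple isometry has dimension divisible by twice the degree. -/
theorem dvd_finrank_fixSp [Nonempty (Fin m ⊕ Fin m)] (K : Subalgebra F Ms)
    (hK : Cfsg.Geo.IsFieldSubalgebra k K) (hsa : Cfsg.Geo.IsSelfAdjointFor (Cfsg.sympForm m F) K)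
    (halt : ∀ a ∈ K, ∀ v : Vs, Cfsg.sympForm m F (a *ᵥ v) v = 0) {A : Ms}
    (hA : ∀ u v, Cfsg.sympForm m F (A *ᵥ u) (A *ᵥ v) = Cfsg.sympForm m F u v)
    (hAK : ∀ a ∈ K, A * a = a * A) {r : ℕ} (hr : (r : F) ≠ 0) (hAr : A ^ r = 1) :
    2 * k ∣ Module.finrank F (fixSp A) := by
  classical
  haveI : Nontrivial K := ⟨⟨1, 0, fun h => one_ne_zero (congrArg Subtype.val h)⟩⟩
  letI fK : Field K :=
    IsField.toField
      { exists_pair_ne := exists_pair_ne K
        mul_comm := fun x y => Subtype.ext (hK.comm x x.2 y y.2)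
        mul_inv_cancel := fun {x} hx => by
          obtain ⟨y, hy, hxy⟩ := hK.inv x x.2 (fun h => hx (Subtype.ext h))
          exact ⟨⟨y, hy⟩, Subtype.ext hxy⟩ }
  letI mK : Module K Vs :=
    { smul := fun a v => (a : Ms) *ᵥ v
      one_smul := fun v => Matrix.one_mulVec v
      mul_smul := fun a b v => (Matrix.mulVec_mulVec v _ _).symm
      smul_zero := fun a => Matrix.mulVec_zero _
      zero_smul := fun v => Matrix.zero_mulVec v
      smul_add := fun a v w => Matrix.mulVec_add _ v w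
      add_smul := fun a b v => Matrix.add_mulVec _ _ v }
  haveI hT : IsScalarTower F K Vs := ⟨fun c a v => Matrix.smul_mulVec c _ v⟩
  haveI : Finite K := Finite.of_injective _ Subtype.val_injective
  have hsm : ∀ (a : K) (v : Vs), a • v = (a : Ms) *ᵥ v := fun a v => rfl
  let W : Submodule K Vs :=
    { carrier := fixSp A
      add_mem' := fun {v w} hv hw => (fixSp A).add_mem hv hw
      zero_mem' := (fixSp A).zero_mem
      smul_mem' := fun a v hv => by
        rw [SetLike.mem_coe, mem_fixSp, hsm, mulVec_mulVec, hAK a a.2, ← mulVec_mulVec, mem_fixSp.1 hv] }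
  let ι : W →ₗ[F] Vs := W.subtype.restrictScalars F
  let B : LinearMap.BilinForm F W := (Forms.sympBilin m F).compl₁₂ ι ι
  have hB : ∀ u v : W, B u v = Cfsg.sympForm m F u v := fun u v => by
    show Forms.sympBilin m F (u : Vs) (v : Vs) = _
    rw [Forms.sympBilin_apply]
  have D : EData K B := by
    refine ⟨fun u hu => Subtype.ext ?_, fun e u v => ?_, fun e v => ?_⟩
    · refine fixSp_nondeg hA hr hAr u.2 fun w hw => ?_
      rw [← hu ⟨w, hw⟩, hB]
    · rw [hB, hB]; exact hsa e e.2 _ _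
    · rw [hB]; exact halt e e.2 _
  haveI : Module.Finite K W := Module.Finite.of_finite
  have h := two_mul_finrank_dvd D
  rw [hK.finrank_eq] at h
  let eW : W ≃ₗ[F] fixSp A :=
    { toFun := fun v => ⟨v.1, v.2⟩
      invFun := fun v => ⟨v.1, v.2⟩
      map_add' := fun _ _ => rfl
      map_smul' := fun _ _ => rfl }
  rwa [eW.finrank_eq] at h

/-- The degree divides the rank, and the symplectic group over the field embeds in the normaliser. -/
theorem card_dvd [Nonempty (Fin m ⊕ Fin m)] (K : Subalgebra F Ms)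
    (hK : Cfsg.Geo.IsFieldSubalgebra k K) (hsa : Cfsg.Geo.IsSelfAdjointFor (Cfsg.sympForm m F) K)
    (halt : ∀ a ∈ K, ∀ v : Vs, Cfsg.sympForm m F (a *ᵥ v) v = 0) :
    ∃ c, m = k * c ∧
      (Cfsg.Geo.subalgebraNormalizer K).relIndex (Cfsg.spGL m F) *
          ((Fintype.card F ^ k) ^ c ^ 2 *
            ∏ i ∈ Finset.range c, ((Fintype.card F ^ k) ^ (2 * (i + 1)) - 1)) ∣
        Nat.card (Cfsg.spGL m F) := by
  classical
  haveI : Nontrivial K := ⟨⟨1, 0, fun h => one_ne_zero (congrArg Subtype.val h)⟩⟩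
  letI fK : Field K :=
    IsField.toField
      { exists_pair_ne := exists_pair_ne K
        mul_comm := fun x y => Subtype.ext (hK.comm x x.2 y y.2)
        mul_inv_cancel := fun {x} hx => by
          obtain ⟨y, hy, hxy⟩ := hK.inv x x.2 (fun h => hx (Subtype.ext h))
          exact ⟨⟨y, hy⟩, Subtype.ext hxy⟩ }
  letI mK : Module K Vs :=
    { smul := fun a v => (a : Ms) *ᵥ v
      one_smul := fun v => Matrix.one_mulVec v
      mul_smul := fun a b v => (Matrix.mulVec_mulVec v _ _).symm
      smul_zero := fun a => Matrix.mulVec_zero _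
      zero_smul := fun v => Matrix.zero_mulVec v
      smul_add := fun a v w => Matrix.mulVec_add _ v w
      add_smul := fun a b v => Matrix.add_mulVec _ _ v }
  haveI hT : IsScalarTower F K Vs := ⟨fun c a v => Matrix.smul_mulVec c _ v⟩
  haveI : Finite K := Finite.of_injective _ Subtype.val_injective
  haveI : FiniteDimensional K Vs := Module.Finite.of_finite
  have hsm : ∀ (a : K) (v : Vs), a • v = (a : Ms) *ᵥ v := fun a v => rfl
  have D : EData K (Forms.sympBilin m F) := by
    refine ⟨(Forms.sympBilin_goodForm (F := F) (m := m)).nondeg, fun e u v => ?_, fun e v => ?_⟩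
    · rw [Forms.sympBilin_apply, Forms.sympBilin_apply, hsm, hsm, hsa e e.2]
    · rw [Forms.sympBilin_apply, hsm, halt e e.2]
  obtain ⟨c, hc, Φ, hΦ⟩ := exists_darboux D
  have hm : m = k * c := by
    have h := Module.finrank_mul_finrank F K Vs
    rw [hK.finrank_eq, hc, Module.finrank_fintype_fun_eq_card, Fintype.card_sum, Fintype.card_fin] at h
    have : k * (c + c) = 2 * (k * c) := by ring
    omega
  refine ⟨c, hm, ?_⟩
  set S := Matrix.symplecticGroup (Fin c) K
  let L : S → Ms := fun M => LinearMap.toMatrix'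
    ((Φ.toLinearMap ∘ₗ (M : Matrix (Fin c ⊕ Fin c) (Fin c ⊕ Fin c) K).mulVecLin ∘ₗ
      Φ.symm.toLinearMap).restrictScalars F)
  have hL : ∀ M v, L M *ᵥ v = Φ ((M : Matrix (Fin c ⊕ Fin c) (Fin c ⊕ Fin c) K) *ᵥ Φ.symm v) := fun M v => by
    rw [LinearMap.toMatrix'_mulVec]; rfl
  let Lh : S →* Ms :=
    { toFun := L
      map_one' := Matrix.ext_iff_mulVec.mpr fun v => by simp [hL]
      map_mul' := fun M N => Matrix.ext_iff_mulVec.mpr fun v => by
        rw [← mulVec_mulVec, hL, hL, hL, Φ.symm_apply_apply, mulVec_mulVec, Submonoid.coe_mul] }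
  let Lu : S →* GL (Fin m ⊕ Fin m) F := Lh.toHomUnits
  have hLu : ∀ M v, (Lu M : Ms) *ᵥ v = Φ ((M : Matrix (Fin c ⊕ Fin c) (Fin c ⊕ Fin c) K) *ᵥ Φ.symm v) :=
    fun M v => hL M v
  have hsp : ∀ M, Lu M ∈ Cfsg.spGL m F := by
    intro M u v
    show Cfsg.sympForm m F ((Lu M : Ms) *ᵥ u) ((Lu M : Ms) *ᵥ v) = _
    rw [hLu, hLu, ← Forms.sympBilin_apply (F := F), ← Forms.sympBilin_apply (F := F) u v, D.B_eq, D.B_eq, hΦ]
    congr 1
    conv_rhs => rw [← Φ.apply_symm_apply u, ← Φ.apply_symm_apply v, hΦ]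
    show (_ *ᵥ _) ⬝ᵥ (Matrix.J (Fin c) K *ᵥ (_ *ᵥ _)) = _
    rw [← Semisimple.bilin_congr, SymplecticGroup.mem_iff'.1 M.2]
    rfl
  have hN : ∀ M, Lu M ∈ Cfsg.Geo.subalgebraNormalizer K := by
    intro M
    refine mem_normalizer_of_maps fun a ha => ?_
    have e : (Lu M : Ms) * a = a * (Lu M : Ms) := Matrix.ext_iff_mulVec.mpr fun v => by
      rw [← mulVec_mulVec, ← mulVec_mulVec, hLu, hLu, ← hsm ⟨a, ha⟩, ← hsm ⟨a, ha⟩, map_smul, mulVec_smul,
        map_smul]
    rw [e, mul_assoc, ← Units.val_mul, mul_inv_cancel, Units.val_one, mul_one]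
    exact ha
  let ψ : S →* (Cfsg.Geo.subalgebraNormalizer K).subgroupOf (Cfsg.spGL m F) :=
    { toFun := fun M => ⟨⟨Lu M, hsp M⟩, hN M⟩
      map_one' := Subtype.ext (Subtype.ext (map_one Lu))
      map_mul' := fun M N => Subtype.ext (Subtype.ext (map_mul Lu M N)) }
  have hinj : Function.Injective ψ := by
    intro M N h
    have h' : Lu M = Lu N := congrArg (fun x => x.1.1) h
    refine Subtype.ext (Matrix.ext_iff_mulVec.mpr fun v => Φ.injective ?_)
    have h1 := hLu M (Φ v)
    have h2 := hLu N (Φ v)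
    rw [h', h2, Φ.symm_apply_apply] at h1
    exact h1.symm
  have hd := Subgroup.card_dvd_of_injective ψ hinj
  haveI : Fintype K := Fintype.ofFinite K
  rw [Classical.natCard_symplecticGroup, Module.natCard_eq_pow_finrank (K := F) (V := K), hK.finrank_eq,
    Nat.card_eq_fintype_card] at hd
  rw [← Subgroup.card_mul_index ((Cfsg.Geo.subalgebraNormalizer K).subgroupOf (Cfsg.spGL m F)),
    mul_comm (Nat.card _)]
  exact mul_dvd_mul_left _ hd

end Cfsg.Agent.Lib.SpExtDerange
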