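import Cfsg.Agent.Lib.SpExtDerange.Witnesses
import Cfsg.Agent.Lib.SpExtDerange.Frames
import Cfsg.Agent.Lib.SpExtDerange.AntiAdj

/-!
Elements in the normaliser of an adjoint-closed quadratic field that is not self-adjoint.
-/

set_option autoImplicit false

namespace Cfsg.Agent.Lib.SpExtDerange

open Matrix

variable {F : Type*} [Field F] {m : ℕ}

theorem J_map {E : Type*} [Field E] (f : F →+* E) :
    (Matrix.J (Fin m) F).map f = Matrix.J (Fin m) E := by
  ext (a | a) (b | b) <;> simp [Matrix.J, Matrix.one_apply, apply_ite f]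

theorem form_map {E : Type*} [Field E] (f : F →+* E) {A : Matrix (Fin m ⊕ Fin m) (Fin m ⊕ Fin m) F}
    (hA : ∀ u v, Cfsg.sympForm m F (A *ᵥ u) (A *ᵥ v) = Cfsg.sympForm m F u v) (u v : Fin m ⊕ Fin m → E) :
    Cfsg.sympForm m E (A.map f *ᵥ u) (A.map f *ᵥ v) = Cfsg.sympForm m E u v := by
  have h : Aᵀ * Matrix.J (Fin m) F * A = Matrix.J (Fin m) F := by
    ext a b
    have h := hA (Pi.single a 1) (Pi.single b 1)
    rw [SpTensorDerange.sympForm_mulVec] at h
    simp only [Cfsg.sympForm, mulVec_single_one, single_one_dotProduct, Matrix.col_apply] at h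
    exact h
  rw [SpTensorDerange.sympForm_mulVec, ← transpose_map, ← J_map f, ← Matrix.map_mul, ← Matrix.map_mul, h,
    Cfsg.sympForm, J_map]

theorem anti_map {E : Type*} [Field E] (f : F →+* E) {A : Matrix (Fin m ⊕ Fin m) (Fin m ⊕ Fin m) F}
    (hA : ∀ u v, Cfsg.sympForm m F (A *ᵥ u) v = -Cfsg.sympForm m F u (A *ᵥ v)) (u v : Fin m ⊕ Fin m → E) :
    Cfsg.sympForm m E (A.map f *ᵥ u) v = -Cfsg.sympForm m E u (A.map f *ᵥ v) := by
  have h : Aᵀ * Matrix.J (Fin m) F = -(Matrix.J (Fin m) F * A) := by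
    ext a b
    have h := hA (Pi.single a 1) (Pi.single b 1)
    rw [Cfsg.sympForm, Cfsg.sympForm, ← vecMul_transpose, ← dotProduct_mulVec, mulVec_mulVec, mulVec_mulVec,
      mulVec_single_one, mulVec_single_one, single_one_dotProduct, single_one_dotProduct] at h
    exact h
  rw [Cfsg.sympForm, Cfsg.sympForm, ← vecMul_transpose, ← dotProduct_mulVec, mulVec_mulVec, mulVec_mulVec,
    ← transpose_map, ← J_map f, ← Matrix.map_mul, ← Matrix.map_mul, h]
  rw [show (-(Matrix.J (Fin m) F * A)).map f = -((Matrix.J (Fin m) F * A).map f) from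
    Matrix.map_neg _ (map_neg f) _, neg_mulVec, dotProduct_neg]

/-- No isometry commuting with an anti-adjoint root of a non-square has a simple eigenvalue of the order of the
witness. -/
theorem not_unitary_simple_root [Fintype F] (hodd : Odd (Fintype.card F))
    (j y : Matrix (Fin m ⊕ Fin m) (Fin m ⊕ Fin m) F) {δ : F} (hjj : j * j = δ • 1) (hns : ∀ s : F, s * s ≠ δ)
    (hjf : ∀ u v, Cfsg.sympForm m F (j *ᵥ u) v = -Cfsg.sympForm m F u (j *ᵥ v))
    (hy : ∀ u v, Cfsg.sympForm m F (y *ᵥ u) (y *ᵥ v) = Cfsg.sympForm m F u v) (hyj : y * j = j * y)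
    {r : ℕ} (hrF : (r : F) ≠ 0) (hyr : y ^ r = 1) (hm : 1 ≤ m)
    (E : Type) [Field E] [Algebra F E] [FiniteDimensional F E] (w : E) (o : ℕ) (ho : Module.finrank F E = o)
    (hwr : w ^ r = 1) (hwe : ∀ e, o = 2 * e → w ^ Fintype.card F ^ e = w⁻¹)
    (hrk : (y.map (algebraMap F E) - w • 1).rank = m + m - 1)
    (hcase : Odd o ∨ ∃ e, o = 2 * e ∧ Even e) : False := by
  classical
  set q := Fintype.card F with hq
  set φ := algebraMap F E with hφ
  haveI : Finite E := Module.finite_of_finite F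
  haveI : Fintype E := Fintype.ofFinite E
  have hr0 : r ≠ 0 := fun h => hrF (by rw [h, Nat.cast_zero])
  have hw0 : w ≠ 0 := fun h => by rw [h, zero_pow hr0] at hwr; exact zero_ne_one hwr
  have hchar : ringChar F ≠ 2 := fun h => by
    have := FiniteField.even_card_of_char_two h
    obtain ⟨k, hk⟩ := hodd; omega
  have h2 : (2 : F) ≠ 0 := Ring.two_ne_zero hchar
  have h2E : (2 : E) ≠ 0 := by rw [← map_ofNat φ]; exact (_root_.map_ne_zero φ).2 h2
  have hδ : δ ≠ 0 := fun e => hns 0 (by rw [mul_zero, e])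
  have hδq : δ ^ (q / 2) = -1 := (FiniteField.pow_dichotomy hchar hδ).resolve_left fun h => by
    obtain ⟨s, hs⟩ := (FiniteField.isSquare_iff hchar hδ).2 h
    exact hns s hs.symm
  set Y := y.map φ with hY
  set P := j.map φ with hP
  have hYP : Y * P = P * Y := by rw [hY, hP, ← Matrix.map_mul, ← Matrix.map_mul, hyj]
  have hPP : ∀ u, P *ᵥ (P *ᵥ u) = φ δ • u := fun u => by
    have e : (δ • (1 : Matrix (Fin m ⊕ Fin m) (Fin m ⊕ Fin m) F)).map φ =
        φ δ • (1 : Matrix (Fin m ⊕ Fin m) (Fin m ⊕ Fin m) E) := by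
      ext a b
      by_cases hab : a = b <;> simp [hab]
    rw [mulVec_mulVec, hP, ← Matrix.map_mul, hjj, e, smul_mulVec, one_mulVec]
  -- the eigenline
  set N := LinearMap.ker (Y - w • 1).mulVecLin with hN
  have hmemN : ∀ u, u ∈ N ↔ Y *ᵥ u = w • u := fun u => by
    rw [hN, LinearMap.mem_ker, mulVecLin_apply, sub_mulVec, smul_mulVec, one_mulVec, sub_eq_zero]
  have hN1 : Module.finrank E N = 1 := by
    have h := (Y - w • 1).mulVecLin.finrank_range_add_finrank_ker
    rw [show Module.finrank E (LinearMap.range (Y - w • 1).mulVecLin) = m + m - 1 from hrk,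
      Module.finrank_fintype_fun_eq_card, Fintype.card_sum, Fintype.card_fin] at h
    show Module.finrank E (LinearMap.ker (Y - w • 1).mulVecLin) = 1
    omega
  obtain ⟨⟨v, hv⟩, hv0, hall⟩ := finrank_eq_one_iff'.1 hN1
  have hYv : Y *ᵥ v = w • v := (hmemN v).1 hv
  have hv0' : v ≠ 0 := fun h => hv0 (Subtype.ext h)
  obtain ⟨c, hc⟩ := hall ⟨P *ᵥ v, (hmemN _).2 (by rw [mulVec_mulVec, hYP, ← mulVec_mulVec, hYv, mulVec_smul])⟩
  have hPv : P *ᵥ v = c • v := (congrArg Subtype.val hc).symm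
  have hcc : c * c = φ δ := by
    have h := hPP v
    rw [hPv, mulVec_smul, hPv, smul_smul] at h
    exact smul_left_injective E hv0' h
  have hc0 : c ≠ 0 := fun h => hδ ((map_eq_zero φ).1 (by rw [← hcc, h, mul_zero]))
  have hcn : ∀ n : ℕ, c ^ q ^ n = (-1) ^ n * c := by
    intro n
    induction n with
    | zero => simp
    | succ n ih =>
      have hq2 : q % 2 = 1 := Nat.odd_iff.1 hodd
      have hcq : c ^ q = -c := by
        rw [show q = 2 * (q / 2) + 1 by omega, pow_succ, pow_mul, sq, hcc, ← map_pow, hδq, map_neg, map_one,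
          neg_one_mul]
      rw [pow_succ q n, pow_mul, ih, mul_pow, hcq, ← pow_mul, mul_comm n, pow_mul, hodd.neg_one_pow, pow_succ]
      ring
  have hoe : Even o := by
    have h := hcn o
    rw [hq, ← ho, ← Module.card_eq_pow_finrank (K := F) (V := E), FiniteField.pow_card, ho] at h
    rcases Nat.even_or_odd o with he | he
    · exact he
    · rw [he.neg_one_pow, neg_one_mul, eq_neg_iff_add_eq_zero, ← two_mul] at h
      exact absurd h (mul_ne_zero h2E hc0)
  obtain ho' | ⟨e, hoe', hee⟩ := hcase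
  · exact Nat.not_even_iff_odd.2 ho' hoe
  -- the conjugate eigenline
  set ψ : E →ₐ[F] E := FiniteField.frobeniusAlgHom F E ^ e
  have hψ : ∀ x, ψ x = x ^ q ^ e := by
    have : ∀ (n : ℕ) (x : E), (FiniteField.frobeniusAlgHom F E ^ n) x = x ^ q ^ n := by
      intro n
      induction n with
      | zero => intro x; simp
      | succ n ih =>
        intro x
        rw [pow_succ, AlgHom.mul_apply, ih, FiniteField.coe_frobeniusAlgHom, ← hq, ← pow_mul, ← pow_succ']
    exact this e
  have hψc : ψ c = c := by rw [hψ, hcn, hee.neg_one_pow, one_mul]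
  have hψw : ψ w = w⁻¹ := by rw [hψ, hwe e hoe']
  have hψsurj : Function.Surjective ψ := Finite.surjective_of_injective ψ.toRingHom.injective
  have hψmap : ∀ (B : Matrix (Fin m ⊕ Fin m) (Fin m ⊕ Fin m) F) (u : Fin m ⊕ Fin m → E),
      (fun i => ψ ((B.map φ *ᵥ u) i)) = B.map φ *ᵥ fun i => ψ (u i) := by
    intro B u
    funext i
    simp [mulVec, dotProduct, map_sum, map_mul, AlgHom.commutes, hφ]
  set v' : Fin m ⊕ Fin m → E := fun i => ψ (v i)
  have hPv' : P *ᵥ v' = c • v' := by
    rw [← hψmap, hPv]; funext i; simp [v', hψc]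
  have huniq : ∀ u, Y *ᵥ u = w⁻¹ • u → ∃ a : E, u = a • v' := by
    intro u hu
    choose u0 hu0 using fun i => hψsurj (u i)
    have hu' : u = fun i => ψ (u0 i) := funext fun i => (hu0 i).symm
    have h : Y *ᵥ u0 = w • u0 := by
      have e := hψmap y u0
      rw [← hu', ← hY, hu] at e
      funext i
      apply ψ.toRingHom.injective
      have e' := congrFun e i
      simp only [Pi.smul_apply, smul_eq_mul] at e' ⊢
      show ψ ((Y *ᵥ u0) i) = ψ (w * u0 i)
      rw [e', map_mul, hψw, hu0]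
    obtain ⟨a, ha⟩ := hall ⟨u0, (hmemN _).2 h⟩
    refine ⟨ψ a, ?_⟩
    have ha' : u0 = a • v := (congrArg Subtype.val ha).symm
    rw [hu', ha']
    funext i
    simp [v']
  have hfv : Cfsg.sympForm m E v v' = 0 := by
    have h := anti_map φ hjf v v'
    rw [← hP, hPv, hPv', SympMax.form_smul_left, SympMax.form_smul_right] at h
    have h' : 2 * c * Cfsg.sympForm m E v v' = 0 := by linear_combination h
    exact (mul_eq_zero.1 h').resolve_left (mul_ne_zero h2E hc0)
  -- averaging
  have hYr : Y ^ r = 1 := by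
    show φ.mapMatrix y ^ r = 1
    rw [← map_pow, hyr, map_one]
  have hrE : (r : E) ≠ 0 := by rw [← map_natCast φ r]; exact (_root_.map_ne_zero φ).2 hrF
  have hYi : ∀ i : ℕ, (Y ^ i) *ᵥ v = w ^ i • v := by
    intro i
    induction i with
    | zero => simp
    | succ i ih => rw [pow_succ, ← mulVec_mulVec, hYv, mulVec_smul, ih, smul_smul, ← pow_succ']
  refine hv0' ?_
  by_contra hne
  obtain ⟨u, hu⟩ := SympMax.exists_form_ne hne
  set S := ∑ i ∈ Finset.range r, w ^ i • ((Y ^ i) *ᵥ u)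
  have hS : Y *ᵥ S = w⁻¹ • S := by
    have h1 := Finset.sum_range_succ (fun i => w ^ i • ((Y ^ i) *ᵥ u)) r
    rw [Finset.sum_range_succ' (fun i => w ^ i • ((Y ^ i) *ᵥ u)) r, hYr, hwr, pow_zero, pow_zero] at h1
    have h2' := add_right_cancel h1
    simp only [S]
    conv_rhs => rw [← h2']
    rw [mulVec_sum, Finset.smul_sum]
    refine Finset.sum_congr rfl fun i _ => ?_
    rw [mulVec_smul, mulVec_mulVec, ← pow_succ', smul_smul, pow_succ' w i, ← mul_assoc, inv_mul_cancel₀ hw0,
      one_mul]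
  obtain ⟨a, ha⟩ := huniq S hS
  have h0 : Cfsg.sympForm m E v S = 0 := by rw [ha, SympMax.form_smul_right, hfv, mul_zero]
  have hterm : ∀ i : ℕ, Cfsg.sympForm m E v (w ^ i • ((Y ^ i) *ᵥ u)) = Cfsg.sympForm m E v u := fun i => by
    rw [SympMax.form_smul_right]
    have h := pow_form (form_map φ hy) i v u
    rw [← hY, hYi, SympMax.form_smul_left] at h
    exact h
  simp only [S, form_finset_sum_right, hterm, Finset.sum_const, Finset.card_range, nsmul_eq_mul] at h0
  exact hu ((mul_eq_zero.1 h0).resolve_left hrE)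

/-- Every element of order two modulo scalars fixes a point. -/
theorem allNorm_two_anti [Fintype F] (h2 : (2 : F) ≠ 0) (K : Subalgebra F (Matrix (Fin m ⊕ Fin m) (Fin m ⊕ Fin m) F))
    [Nonempty (Fin m ⊕ Fin m)] (hodd : Odd (Fintype.card F)) (hK : Cfsg.Geo.IsFieldSubalgebra 2 K)
    (hac : Cfsg.Geo.IsAdjointClosedFor (Cfsg.sympForm m F) K)
    (hnsa : ¬ Cfsg.Geo.IsSelfAdjointFor (Cfsg.sympForm m F) K) : AllNorm K 2 := by
  classical
  obtain ⟨j, δ, hjK, hjj, hns, hjf, hspan, -⟩ := exists_anti_gen hodd K hK hac hnsa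
  have hδ : δ ≠ 0 := fun e => hns 0 (by rw [mul_zero, e])
  obtain ⟨h, hh, hjh⟩ := exists_anti_frame h2 hδ j hjj hjf
  intro x hx hxz _
  obtain ⟨z, hz⟩ := hxz
  have hxx : (x : Matrix (Fin m ⊕ Fin m) (Fin m ⊕ Fin m) F) * x = z • 1 := by rw [← hz, sq, Units.val_mul]
  set H := (h : Matrix (Fin m ⊕ Fin m) (Fin m ⊕ Fin m) F)
  set Hi := ((h⁻¹ : GL (Fin m ⊕ Fin m) F) : Matrix (Fin m ⊕ Fin m) (Fin m ⊕ Fin m) F)
  have hi : Hi * H = 1 := by rw [← Units.val_mul, inv_mul_cancel, Units.val_one]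
  have hi' : H * Hi = 1 := by rw [← Units.val_mul, mul_inv_cancel, Units.val_one]
  have key : ∀ (S : Matrix (Fin m ⊕ Fin m) (Fin m ⊕ Fin m) F) (e : F), S * stdAnti m δ = e • (stdAnti m δ * S) →
      (H * S * Hi) * j = e • (j * (H * S * Hi)) := by
    intro S e hS
    have hjH : j = H * stdAnti m δ * Hi := by rw [← hjh, mul_assoc, hi', mul_one]
    calc H * S * Hi * j = H * (S * stdAnti m δ) * Hi := by
          rw [hjH]; simp only [mul_assoc]; rw [← mul_assoc Hi H, hi, one_mul]
      _ = _ := by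
          rw [hS, mul_smul_comm, smul_mul_assoc, hjH]
          simp only [mul_assoc]; rw [← mul_assoc Hi H, hi, one_mul]
  rcases sq_scalar_cases hx hz with rfl | rfl
  · rw [one_smul] at hxx
    obtain ⟨g1, e, hg1, -, hxg⟩ := exists_sign_frame h2 _ hxx (form_spGL hx)
    refine ⟨g1 * h⁻¹, mul_mem hg1 (inv_mem hh), mem_normalizer_of_gen hjK hspan (e := 1) ?_⟩
    have hval : (((g1 * h⁻¹)⁻¹ * x * (g1 * h⁻¹) : GL (Fin m ⊕ Fin m) F) : Matrix (Fin m ⊕ Fin m) (Fin m ⊕ Fin m) F) =
        H * stdSign e * Hi := by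
      rw [← conj_eq g1 hxg]
      simp [H, Hi, mul_assoc]
    rw [hval]
    refine key _ _ ?_
    rw [one_smul, stdSign, stdAnti, ← fromBlocks_diagonal e e, fromBlocks_multiply, fromBlocks_multiply]
    simp
  · obtain ⟨s, t, hst⟩ : ∃ s t : F, s * s - δ * (t * t) = -1 := by
      obtain ⟨s, t, hst⟩ := FiniteField.exists_root_sum_quadratic (R := F)
        (f := Polynomial.X ^ 2 - Polynomial.C (-1 : F)) (g := Polynomial.C (-δ) * Polynomial.X ^ 2)
        (Polynomial.degree_X_pow_sub_C two_pos _)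
        (by rw [Polynomial.degree_C_mul_X_pow 2 (neg_ne_zero.2 hδ)]; rfl) (Nat.odd_iff.1 hodd)
      simp at hst
      exact ⟨s, t, by linear_combination hst⟩
    set Y : Matrix (Fin m ⊕ Fin m) (Fin m ⊕ Fin m) F :=
      fromBlocks ((-s) • (1 : Matrix (Fin m) (Fin m) F)) (t • (1 : Matrix (Fin m) (Fin m) F))
        ((-(t * δ)) • (1 : Matrix (Fin m) (Fin m) F)) (s • (1 : Matrix (Fin m) (Fin m) F)) with hYdef
    have hY : Y ∈ Matrix.symplecticGroup (Fin m) F := by
      rw [SymplecticGroup.mem_iff', Matrix.J, fromBlocks_transpose, fromBlocks_multiply, fromBlocks_multiply]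
      simp only [transpose_smul, transpose_one, mul_zero, mul_one, one_mul, zero_add, add_zero, mul_neg,
        smul_mul_smul_comm, neg_mul, ← add_smul, ← neg_smul]
      congr 1
      · convert zero_smul F (1 : Matrix (Fin m) (Fin m) F) using 2; ring
      · convert neg_one_smul F (1 : Matrix (Fin m) (Fin m) F) using 2; linear_combination hst
      · convert one_smul F (1 : Matrix (Fin m) (Fin m) F) using 2; linear_combination -hst
      · convert zero_smul F (1 : Matrix (Fin m) (Fin m) F) using 2; ring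
    have hYY : Y * Y = (-1 : F) • 1 := by
      rw [hYdef, fromBlocks_multiply, ← fromBlocks_one, fromBlocks_smul]
      simp only [smul_mul_smul_comm, mul_one, ← add_smul, smul_zero]
      congr 1
      · congr 1; linear_combination hst
      · convert zero_smul F (1 : Matrix (Fin m) (Fin m) F) using 2; ring
      · convert zero_smul F (1 : Matrix (Fin m) (Fin m) F) using 2; ring
      · congr 1; linear_combination hst
    set y := h * SpTensorDerange.spUnit hY * h⁻¹ with hydef
    have hymem : y ∈ Cfsg.spGL m F := mul_mem (mul_mem hh (SpTensorDerange.spUnit_mem hY)) (inv_mem hh)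
    have hyv : (y : Matrix (Fin m ⊕ Fin m) (Fin m ⊕ Fin m) F) = H * Y * Hi := by
      rw [hydef, Units.val_mul, Units.val_mul]; rfl
    have hyy : (y : Matrix (Fin m ⊕ Fin m) (Fin m ⊕ Fin m) F) * y = (-1 : F) • 1 := by
      rw [hyv]
      simp only [mul_assoc]
      rw [← mul_assoc Hi H, hi, one_mul, ← mul_assoc Y, hYY, smul_mul_assoc, one_mul, mul_smul_comm, hi']
    obtain ⟨g, hg, hgx⟩ := exists_anti_conj h2 (neg_ne_zero.2 one_ne_zero) _ _ hxx
      (anti_of_sq (form_spGL hx) hxx) hyy (anti_of_sq (form_spGL hymem) hyy)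
    refine ⟨g, hg, mem_normalizer_of_gen hjK hspan (e := -1) ?_⟩
    rw [Units.val_mul, Units.val_mul, conj_eq g hgx, hyv]
    refine key _ _ ?_
    rw [hYdef, stdAnti, fromBlocks_multiply, fromBlocks_multiply, fromBlocks_smul]
    congr 1 <;> simp [smul_smul] <;> module

end Cfsg.Agent.Lib.SpExtDerange
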