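import Mathlib
import Cfsg.Agent.Lib.SpTensorDerange.Field
import Cfsg.Agent.Lib.SpExtDerange.Arith

/-!
A symplectic element of prime order moving a subspace of prescribed dimension, with a simple eigenvalue.
-/

set_option autoImplicit false

namespace Cfsg.Agent.Lib.SpExtDerange

open Matrix Polynomial
open Cfsg.Agent.Lib.Semisimple
open Cfsg.Agent.Lib.SpTensorDerange (rank_sub_eq aeval_pow_card_pow dual_pow_sub_one)

variable {F : Type*} [Field F] [Fintype F]

/-- The witness. -/
theorem exists_witness {p : ℕ} [Fact p.Prime] [CharP F p] {d r : ℕ} (hr : r.Prime) (hr2 : r ≠ 2)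
    (hrp : r ≠ p) (hd : halfOrd r (Fintype.card F) ≤ d) :
    ∃ A : Matrix (Fin d ⊕ Fin d) (Fin d ⊕ Fin d) F, A ∈ Matrix.symplecticGroup (Fin d) F ∧ A ^ r = 1 ∧
      (A - 1).rank = 2 * halfOrd r (Fintype.card F) ∧
      ∃ (E : Type) (_ : Field E) (_ : Algebra F E) (_ : FiniteDimensional F E) (w : E),
        Module.finrank F E = orderOf (Fintype.card F : ZMod r) ∧ w ^ r = 1 ∧
        (∀ e, orderOf (Fintype.card F : ZMod r) = 2 * e → w ^ Fintype.card F ^ e = w⁻¹) ∧
        (A.map (algebraMap F E) - w • 1).rank = d + d - 1 := by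
  classical
  set q := Fintype.card F with hqdef
  have hq0 : 0 < q := Fintype.card_pos
  have hrcop : r.Coprime p := (Nat.coprime_primes hr Fact.out).2 hrp
  have hrF : (r : F) ≠ 0 := natCast_ne_zero_of_coprime (p := p) hrcop
  obtain ⟨nq, -, hnq⟩ := FiniteField.card F p
  have hrq : ¬ r ∣ q := fun h => hrp ((Nat.prime_dvd_prime_iff_eq hr Fact.out).1
    (hr.dvd_of_dvd_pow (hnq ▸ (hqdef ▸ h : r ∣ Fintype.card F))))
  set m := orderOf (q : ZMod r) with hm
  have hm1 : 1 ≤ m := orderOf_cast_pos hr hrq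
  have hmr : r ∣ q ^ m - 1 := (dvd_pow_sub_one_iff hq0 m).2 dvd_rfl
  obtain ⟨E, _, _, pb, hdim, hgr, hg1⟩ := TensorDerange.exists_root_of_unity hr hm1 hmr
  haveI := pb.finite
  haveI : Finite E := Module.finite_of_finite F
  haveI : Fintype E := Fintype.ofFinite E
  set w := pb.gen with hw
  have hw0 : w ≠ 0 := fun h => by rw [h, zero_pow hr.ne_zero] at hgr; exact zero_ne_one hgr
  have hwr : orderOf (Units.mk0 w hw0) = r := by
    haveI : Fact r.Prime := ⟨hr⟩
    refine orderOf_eq_prime (Units.ext ?_) fun h => hg1 ?_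
    · rw [Units.val_pow_eq_pow_val]; exact hgr
    · exact congrArg Units.val h
  have hwinv : w⁻¹ ≠ w := fun h => by
    have h2 : Units.mk0 w hw0 ^ 2 = 1 := Units.ext (by
      rw [Units.val_pow_eq_pow_val, Units.val_mk0, Units.val_one, sq]
      nth_rewrite 1 [← h]
      exact inv_mul_cancel₀ hw0)
    have h3 := orderOf_dvd_of_pow_eq_one h2
    rw [hwr] at h3
    exact hr2 ((Nat.prime_dvd_prime_iff_eq hr Nat.prime_two).1 h3)
  have hmdim : pb.dim = m := by
    refine le_antisymm hdim (Nat.le_of_dvd pb.dim_pos ((dvd_pow_sub_one_iff hq0 _).1 ?_))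
    have h2 := orderOf_dvd_card (x := Units.mk0 w hw0)
    rwa [hwr, Fintype.card_units, Module.card_eq_pow_finrank (K := F) (V := E), pb.finrank] at h2
  set g := minpoly F w with hg
  have hgm : g.Monic := minpoly.monic (IsIntegral.of_finite F w)
  have hgirr : Irreducible g := minpoly.irreducible (IsIntegral.of_finite F w)
  have hgdeg : g.natDegree = m := by rw [hg, hw, PowerBasis.natDegree_minpoly, hmdim]
  have hg0' : g.coeff 0 ≠ 0 := minpoly.coeff_zero_ne_zero (IsIntegral.of_finite F w) hw0
  have hgdvd : g ∣ X ^ r - 1 := minpoly.dvd F w (by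
    rw [map_sub, map_pow, aeval_X, map_one, hgr, sub_self])
  set g' := dual (RingHom.id F) g with hg'
  have hg'm : g'.Monic := dual_monic _ hg0'
  have hg'deg : g'.natDegree = m := by rw [hg', dual_natDegree _ hg0', hgdeg]
  have hg'dvd : g' ∣ X ^ r - 1 := by
    obtain ⟨c, hc⟩ := hgdvd
    refine ⟨dual (RingHom.id F) c, ?_⟩
    rw [hg', ← dual_mul, ← hc, dual_pow_sub_one r hr.one_lt.le]
  have hgroot : aeval w g = 0 := minpoly.aeval F w
  have hg1' : ¬ X - C (1 : F) ∣ g := fun h => hg1 (by
    have h' := eq_of_monic_of_associated (monic_X_sub_C 1) hgm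
      ((irreducible_X_sub_C (1 : F)).associated_of_dvd hgirr h)
    rw [← h', map_sub, aeval_X, aeval_C, map_one, sub_eq_zero] at hgroot
    exact hgroot)
  have hg'1 : ¬ X - C (1 : F) ∣ g' := by
    rintro ⟨c, hc⟩
    refine hg1' ⟨dual (RingHom.id F) c, ?_⟩
    have h := congrArg (dual (RingHom.id F)) hc
    rwa [hg', dual_dual _ (fun _ => rfl) hgm hg0', dual_mul, dual_X_sub_C_self (mul_one 1)] at h
  -- a self dual `g` is the same as a Galois conjugate inverse
  have hinv_of : aeval w⁻¹ g = 0 → g' = g := by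
    intro hinv
    haveI : Invertible w⁻¹ := invertibleOfNonzero (inv_ne_zero hw0)
    have hrev : aeval w g' = 0 := by
      have h1 : eval₂ (algebraMap F E) (⅟ w⁻¹) g.reverse = 0 :=
        (eval₂_reverse_eq_zero_iff _ _ _).2 hinv
      rw [invOf_eq_inv, inv_inv] at h1
      rw [hg', dual, Polynomial.map_id, map_mul, aeval_def (R := F) w g.reverse, h1, mul_zero]
    exact eq_of_monic_of_dvd_of_natDegree_le hgm hg'm (minpoly.dvd F w hrev) (by omega)
  have hwe : ∀ e, m = 2 * e → w ^ q ^ e = w⁻¹ := by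
    intro e he
    obtain ⟨c, hc⟩ := dvd_pow_add_one hr hq0 he (by omega)
    refine eq_inv_of_mul_eq_one_left ?_
    rw [← pow_succ, hc, pow_mul, hgr, one_pow]
  -- the self dual factor
  obtain ⟨f0, hf0m, hf0deg, hf0c, hf0dual, hf0dvd, hf0root, hf0one⟩ :
      ∃ f0 : F[X], f0.Monic ∧ f0.natDegree = 2 * halfOrd r q ∧ f0.coeff 0 = (-1) ^ f0.natDegree ∧
        dual (RingHom.id F) f0 = f0 ∧ f0 ∣ X ^ r - 1 ∧ aeval w f0 = 0 ∧ ¬ X - C (1 : F) ∣ f0 := by
    by_cases hev : Even m
    · obtain ⟨e, he⟩ := hev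
      have hsd : g' = g := hinv_of (by
        rw [← hwe e (by omega), hqdef, aeval_pow_card_pow, hgroot, zero_pow]
        exact pow_ne_zero _ Fintype.card_ne_zero)
      have hr1 : ¬ r ∣ q - 1 := fun h => by
        have h1 : r ∣ q ^ 1 - 1 := by rw [pow_one]; exact h
        have : m ≤ 1 := Nat.le_of_dvd one_pos ((dvd_pow_sub_one_iff hq0 1).1 h1)
        omega
      have hg0 : g.coeff 0 = (-1) ^ m := by
        set M := Algebra.leftMulMatrix pb.basis pb.gen
        have hMr : M ^ r = 1 := by rw [← map_pow, hgr, map_one]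
        have h1 : M.det ^ r = 1 := by rw [← Matrix.det_pow, hMr, Matrix.det_one]
        have h0 : M.det ≠ 0 := fun e => by simp [e, hr.ne_zero] at h1
        have h2 := FiniteField.pow_card_sub_one_eq_one M.det h0
        have h3 : Nat.Coprime r (Fintype.card F - 1) := (Nat.Prime.coprime_iff_not_dvd hr).2 hr1
        have h4 := pow_gcd_eq_one.2 ⟨h1, h2⟩
        rw [h3.gcd_eq_one, pow_one, Matrix.det_eq_sign_charpoly_coeff, charpoly_leftMulMatrix,
          Fintype.card_fin, hmdim, ← hw, ← hg] at h4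
        rcases neg_one_pow_eq_or F m with hs | hs <;> rw [hs] at h4 ⊢
        · rwa [one_mul] at h4
        · rw [neg_one_mul] at h4
          exact (neg_neg (g.coeff 0)).symm.trans (by rw [h4])
      refine ⟨g, hgm, ?_, by rw [hg0, hgdeg], by rw [← hg']; exact hsd, hgdvd, hgroot, hg1'⟩
      rw [hgdeg, halfOrd, ← hm, if_pos ⟨e, he⟩]
      omega
    · have hsd : g' ≠ g := by
        intro hsd
        apply hev
        have hinv : aeval w⁻¹ g = 0 := by
          haveI : Invertible w := invertibleOfNonzero hw0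
          have h1 : aeval w g' = 0 := by rw [hsd]; exact hgroot
          rw [hg', dual, Polynomial.map_id, map_mul] at h1
          have h2 : aeval w g.reverse = 0 := by
            refine (mul_eq_zero.1 h1).resolve_left ?_
            rw [aeval_C]
            exact (_root_.map_ne_zero _).2 (inv_ne_zero hg0')
          haveI : Invertible w⁻¹ := invertibleOfNonzero (inv_ne_zero hw0)
          have h3 := (eval₂_reverse_eq_zero_iff (algebraMap F E) w⁻¹ g).1 (by
            rw [invOf_eq_inv, inv_inv]; exact h2)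
          exact h3
        set σ := pb.lift w⁻¹ hinv
        have hσw : σ w = w⁻¹ := pb.lift_gen _ _
        set τ : E ≃ₐ[F] E := AlgEquiv.ofBijective σ (Finite.injective_iff_bijective.1 σ.toRingHom.injective)
        have hτw : τ w = w⁻¹ := hσw
        have hτ2 : τ ^ 2 = 1 := by
          apply AlgEquiv.ext
          intro x
          have h : (τ ^ 2).toAlgHom = (1 : E ≃ₐ[F] E).toAlgHom := pb.algHom_ext (by
            show (τ ^ 2) w = w
            rw [sq, AlgEquiv.mul_apply, hτw, map_inv₀, hτw, inv_inv])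
          exact DFunLike.congr_fun h x
        have hτ1 : τ ≠ 1 := fun h => hwinv (by rw [← hτw, h]; rfl)
        have h2 := orderOf_dvd_natCard τ
        rw [orderOf_eq_prime hτ2 hτ1, IsGalois.card_aut_eq_finrank, pb.finrank, hmdim] at h2
        exact even_iff_two_dvd.2 h2
      have hcop : IsCoprime g g' := hgirr.coprime_iff_not_dvd.2 fun h =>
        hsd (eq_of_monic_of_dvd_of_natDegree_le hgm hg'm h (by omega))
      refine ⟨g * g', hgm.mul hg'm, ?_, ?_, ?_, hcop.mul_dvd hgdvd hg'dvd, by rw [map_mul, hgroot, zero_mul],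
        fun h => ?_⟩
      · rw [hgm.natDegree_mul hg'm, hgdeg, hg'deg, halfOrd, ← hm, if_neg hev, two_mul]
      · rw [mul_coeff_zero, hg', dual_coeff_zero _ hgm, RingHom.id_apply, mul_inv_cancel₀ hg0',
          hgm.natDegree_mul (dual_monic _ hg0'), ← hg', hgdeg, hg'deg, ← two_mul, pow_mul, neg_one_sq, one_pow]
      · rw [dual_mul, hg', dual_dual _ (fun _ => rfl) hgm hg0', mul_comm]
      · exact ((irreducible_X_sub_C (1 : F)).prime.dvd_or_dvd h).elim hg1' hg'1
  -- the matrix
  set k := d + d - f0.natDegree with hk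
  set f := f0 * (X - C (1 : F)) ^ k with hf
  have hmX : (X - C (1 : F)).Monic := monic_X_sub_C 1
  obtain ⟨A, hA, hAc, o, ho, hAo⟩ := exists_sp_model (p := p) d f (hf0m.mul (hmX.pow k))
    (by rw [hf, hf0m.natDegree_mul (hmX.pow k), natDegree_pow, natDegree_X_sub_C]; omega)
    (by
      rw [hf, mul_coeff_zero, hf0c, coeff_zero_eq_eval_zero, eval_pow, eval_sub, eval_X, eval_C, zero_sub,
        ← pow_add, show f0.natDegree + k = 2 * d by omega, pow_mul, neg_one_sq, one_pow])
    (by rw [hf, dual_mul, hf0dual, dual_X_sub_C_pow (mul_one 1)])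
  have hAr : A ^ r = 1 := by
    have hX1 : X - C (1 : F) ∣ X ^ r - 1 := by
      rw [dvd_iff_isRoot]; simp
    have h1 : minpoly F A ∣ (X ^ r - 1) ^ (1 + k) := by
      refine A.minpoly_dvd_charpoly.trans ?_
      rw [hAc, hf, pow_add, pow_one]
      exact mul_dvd_mul hf0dvd (pow_dvd_pow_of_dvd hX1 k)
    have h2 : Squarefree (minpoly F A) :=
      (squarefree_pow_sub_one (natCast_ne_zero_of_coprime (p := p) ho)).squarefree_of_dvd
        (minpoly.dvd F A (by rw [map_sub, map_pow, aeval_X, map_one, hAo, sub_self]))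
    obtain ⟨c, hc⟩ := (h2.dvd_pow_iff_dvd (by omega)).1 h1
    have h3 := congrArg (aeval A) hc
    rw [map_mul, minpoly.aeval, zero_mul, map_sub, map_pow, aeval_X, map_one, sub_eq_zero] at h3
    exact h3
  refine ⟨A, hA, hAr, ?_, E, inferInstance, inferInstance, inferInstance, w, by rw [pb.finrank, hmdim],
    hgr, hwe, ?_⟩
  · have hrk := rank_sub_eq A hrF hAr 1
    rw [one_smul, Fintype.card_sum, Fintype.card_fin] at hrk
    have hne : f0 ≠ 0 := hf0m.ne_zero
    have hmult : A.charpoly.rootMultiplicity 1 = k := by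
      rw [hAc, hf, rootMultiplicity_mul (mul_ne_zero hne (pow_ne_zero _ (X_sub_C_ne_zero _))),
        rootMultiplicity_X_sub_C_pow, rootMultiplicity_eq_zero (fun h => hf0one (dvd_iff_isRoot.2 h)),
        zero_add]
    omega
  have hrE : (r : E) ≠ 0 := by
    rw [← map_natCast (algebraMap F E) r]
    exact (_root_.map_ne_zero _).2 hrF
  have hArE : (A.map (algebraMap F E)) ^ r = 1 := by
    show ((algebraMap F E).mapMatrix A) ^ r = 1
    rw [← map_pow, hAr, map_one]
  have h := rank_sub_eq (A.map (algebraMap F E)) hrE hArE w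
  have hne : f0.map (algebraMap F E) ≠ 0 := (Polynomial.map_ne_zero_iff (algebraMap F E).injective).2 hf0m.ne_zero
  have hmw : (A.map (algebraMap F E)).charpoly.rootMultiplicity w = 1 := by
    rw [Matrix.charpoly_map, hAc, hf, Polynomial.map_mul, Polynomial.map_pow, Polynomial.map_sub, map_X,
      map_C, map_one, rootMultiplicity_mul (mul_ne_zero hne (pow_ne_zero _ (X_sub_C_ne_zero _)))]
    have h1 : ((X - C (1 : E)) ^ k).rootMultiplicity w = 0 := rootMultiplicity_eq_zero (by
      rw [IsRoot, eval_pow, eval_sub, eval_X, eval_C]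
      exact pow_ne_zero _ (sub_ne_zero.2 hg1))
    have h2 : 0 < (f0.map (algebraMap F E)).rootMultiplicity w := by
      rw [rootMultiplicity_pos hne, IsRoot, eval_map, ← aeval_def]
      exact hf0root
    have h3 : (f0.map (algebraMap F E)).rootMultiplicity w ≤ 1 := by
      by_contra hlt
      push Not at hlt
      have hd2 : (X - C w) * (X - C w) ∣ f0.map (algebraMap F E) := by
        rw [← sq]
        exact (le_rootMultiplicity_iff hne).1 hlt
      have hsq : Squarefree (f0.map (algebraMap F E)) := by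
        refine (squarefree_pow_sub_one hrE).squarefree_of_dvd ?_
        have := Polynomial.map_dvd (algebraMap F E) hf0dvd
        simpa using this
      exact (irreducible_X_sub_C w).not_isUnit (hsq _ hd2)
    omega
  rw [hmw, Fintype.card_sum, Fintype.card_fin] at h
  omega

end Cfsg.Agent.Lib.SpExtDerange
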