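import Cfsg.Agent.Lib.SpTensorDerange.Fix
import Cfsg.Agent.Lib.ExtFieldMax.SympQuadratic
import Cfsg.Agent.Lib.SpExtDerange.Witness
import Cfsg.Agent.Lib.SpExtDerange.Basic

/-!
Shared steps for the two families of field extension subgroups.
-/

set_option autoImplicit false

namespace Cfsg.Agent.Lib.SpExtDerange

open Matrix

variable {F : Type*} [Field F] {m : ℕ}

local notation "Vs" => (Fin m ⊕ Fin m → F)
local notation "Ms" => Matrix (Fin m ⊕ Fin m) (Fin m ⊕ Fin m) F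

/-- Every element of order `r` fixes a point. -/
def AllNorm (K : Subalgebra F (Matrix (Fin m ⊕ Fin m) (Fin m ⊕ Fin m) F)) (r : ℕ) : Prop :=
  ∀ x ∈ Cfsg.spGL m F, (∃ z : F, ((x ^ r : GL (Fin m ⊕ Fin m) F) : Matrix (Fin m ⊕ Fin m) (Fin m ⊕ Fin m) F) =
      z • (1 : Matrix (Fin m ⊕ Fin m) (Fin m ⊕ Fin m) F)) →
    (∀ z : F, (x : Matrix (Fin m ⊕ Fin m) (Fin m ⊕ Fin m) F) ≠ z • (1 : Matrix (Fin m ⊕ Fin m) (Fin m ⊕ Fin m) F)) →
    ∃ g ∈ Cfsg.spGL m F, g⁻¹ * x * g ∈ Cfsg.Geo.subalgebraNormalizer K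

theorem form_spGL {g : GL (Fin m ⊕ Fin m) F} (hg : g ∈ Cfsg.spGL m F) (u v : Vs) :
    Cfsg.sympForm m F ((g : Ms) *ᵥ u) ((g : Ms) *ᵥ v) = Cfsg.sympForm m F u v := hg u v

/-- A transvection is a witness in the characteristic. -/
theorem not_allNorm_char [Finite F] {k p : ℕ} [CharP F p] (hm : 2 ≤ m)
    {K : Subalgebra F (Matrix (Fin m ⊕ Fin m) (Fin m ⊕ Fin m) F)} (hK : Cfsg.Geo.IsFieldSubalgebra k K)
    (hk : 2 ≤ k) : ¬ AllNorm K p := by
  classical
  intro hall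
  let i0 : Fin m ⊕ Fin m := Sum.inl ⟨0, by omega⟩
  set v : Vs := Pi.single i0 1
  have hv : v ≠ 0 := by simp [v]
  obtain ⟨u, hu⟩ := SympMax.exists_form_ne hv
  have hu' : Cfsg.sympForm m F u v ≠ 0 := by rw [Forms.sympForm_comm]; simpa using hu
  set x := SympMax.T v (1 : F)
  have hns : ∀ z : F, (x : Ms) ≠ z • 1 := by
    intro z hz
    have h1 := congrArg (· *ᵥ v) hz
    simp only [x, SympMax.T_mulVec, Forms.sympForm_self, mul_zero, zero_smul, add_zero, smul_mulVec,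
      one_mulVec] at h1
    have hz1 : z = 1 := by
      have h2 := congrFun h1 i0
      simp [v] at h2
      exact h2.symm
    have h3 := congrArg (· *ᵥ u) hz
    simp only [x, hz1, SympMax.T_mulVec, one_smul, one_mulVec, add_eq_left, one_mul] at h3
    exact hu' ((smul_eq_zero.1 h3).resolve_right hv)
  obtain ⟨g, hg, hgN⟩ := hall x (SympMax.T_mem v 1) ⟨1, by
    rw [show x ^ p = SympMax.T v ((p : F) * 1) from ExtFieldMax.SympQuad.T_pow v 1 p, CharP.cast_eq_zero,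
      zero_mul, one_smul]
    exact Matrix.ext_iff_mulVec.mpr fun z => by simp⟩ hns
  set w : Vs := ((g⁻¹ : GL (Fin m ⊕ Fin m) F) : Ms) *ᵥ v
  let φ : Vs →ₗ[F] F := ((Forms.sympBilin m F).flip v).comp (g : Ms).mulVecLin
  have hφ : ∀ z, φ z = Cfsg.sympForm m F ((g : Ms) *ᵥ z) v := fun z => by
    simp [φ, Forms.sympBilin_apply]
  refine not_mem_normalizer_rank_one hK hk (by simp; omega) _ hgN φ w ?_ ?_ fun z => ?_
  · intro h
    have h' := congrArg ((g : Ms) *ᵥ ·) h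
    simp only [w, mulVec_mulVec, ← Units.val_mul, mul_inv_cancel, Units.val_one, one_mulVec, mulVec_zero] at h'
    exact hv h'
  · intro h
    have h' := LinearMap.congr_fun h (((g⁻¹ : GL (Fin m ⊕ Fin m) F) : Ms) *ᵥ u)
    rw [hφ, mulVec_mulVec, ← Units.val_mul, mul_inv_cancel, Units.val_one, one_mulVec,
      LinearMap.zero_apply] at h'
    exact hu' h'
  · rw [Units.val_mul, Units.val_mul, ← mulVec_mulVec, ← mulVec_mulVec, SympMax.T_mulVec, mulVec_add,
      mulVec_smul, mulVec_mulVec, ← Units.val_mul, inv_mul_cancel, Units.val_one, one_mulVec, one_mul, hφ]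

/-- The moved conjugate of a matrix witness. -/
theorem exists_moved [Finite F] {K : Subalgebra F (Matrix (Fin m ⊕ Fin m) (Fin m ⊕ Fin m) F)} {r : ℕ}
    (hall : AllNorm K r) {A : Matrix (Fin m ⊕ Fin m) (Fin m ⊕ Fin m) F}
    (hA : A ∈ Matrix.symplecticGroup (Fin m) F) (hAr : A ^ r = 1) (hns : ∀ z : F, A ≠ z • 1) :
    ∃ g y : GL (Fin m ⊕ Fin m) F, g ∈ Cfsg.spGL m F ∧ y ∈ Cfsg.spGL m F ∧
      y ∈ Cfsg.Geo.subalgebraNormalizer K ∧ y ^ r = 1 ∧
      (y : Matrix (Fin m ⊕ Fin m) (Fin m ⊕ Fin m) F) =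
        ((g⁻¹ : GL (Fin m ⊕ Fin m) F) : Matrix (Fin m ⊕ Fin m) (Fin m ⊕ Fin m) F) * A * g := by
  obtain ⟨g, hg, hgN⟩ := hall (SpTensorDerange.spUnit hA) (SpTensorDerange.spUnit_mem hA)
    ⟨1, by rw [Units.val_pow_eq_pow_val, one_smul]; exact hAr⟩ hns
  refine ⟨g, g⁻¹ * SpTensorDerange.spUnit hA * g, hg,
    mul_mem (mul_mem (inv_mem hg) (SpTensorDerange.spUnit_mem hA)) hg, hgN, ?_, ?_⟩
  · have h1 : SpTensorDerange.spUnit hA ^ r = 1 := Units.ext (by rw [Units.val_pow_eq_pow_val]; exact hAr)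
    have h2 := conj_pow (a := g⁻¹) (b := SpTensorDerange.spUnit hA) (i := r)
    rw [inv_inv, h1, mul_one, inv_mul_cancel] at h2
    exact h2
  · rw [Units.val_mul, Units.val_mul]; rfl

/-- A diagonal involution moving one pair. -/
theorem exists_pair_involution (hm : 2 ≤ m) (h2 : (2 : F) ≠ 0) :
    ∃ A : Matrix (Fin m ⊕ Fin m) (Fin m ⊕ Fin m) F, A ∈ Matrix.symplecticGroup (Fin m) F ∧ A * A = 1 ∧
      (∀ z : F, A ≠ z • 1) ∧ (A - 1).rank = 2 ∧ (-A - 1).rank = m + m - 2 := by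
  classical
  have hn1 : (-1 : F) ≠ 1 := fun h => h2 (by linear_combination -h)
  have hd : 0 < m := by omega
  set v : Fin m → F := fun i => if i = ⟨0, hd⟩ then -1 else 1
  have hv : ∀ i, v i ≠ 0 := fun i => by simp only [v]; split <;> simp
  have hr := (SpTensorDerange.pair_ranks hd (u := (-1 : F)) (by simp) hn1 0).1
  refine ⟨_, SpTensorDerange.diag_mem_sp v hv, ?_, ?_, ?_, ?_⟩
  · rw [diagonal_mul_diagonal, ← diagonal_one]
    congr 1
    funext i
    rcases i with i | i <;> by_cases hi : i = ⟨0, hd⟩ <;> simp [v, hi]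
  · intro z hz
    have h1 := congrFun (congrFun hz (Sum.inl ⟨0, hd⟩)) (Sum.inl ⟨0, hd⟩)
    have h3 := congrFun (congrFun hz (Sum.inl ⟨1, by omega⟩)) (Sum.inl ⟨1, by omega⟩)
    simp [v] at h1 h3
    exact hn1 (h1.trans h3.symm)
  · rw [one_smul] at hr; exact hr
  · rw [diagonal_neg, ← one_smul F (1 : Ms), SpTensorDerange.rank_diag_sub]
    have : (Finset.univ.filter fun i => -(Sum.elim v (fun i => (v i)⁻¹)) i ≠ (1 : F)) =
        ({Sum.inl ⟨0, hd⟩, Sum.inr ⟨0, hd⟩} : Finset (Fin m ⊕ Fin m))ᶜ := by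
      ext (i | i) <;> by_cases hi : i = ⟨0, hd⟩ <;> simp [v, hi, hn1]
    rw [this, Finset.card_compl, Finset.card_pair (by simp)]
    simp

theorem ne_scalar_of_rank {A : Matrix (Fin m ⊕ Fin m) (Fin m ⊕ Fin m) F} {j : ℕ} {E : Type} [Field E]
    (f : F →+* E) (w : E) (hA : (A - 1).rank = j) (hw : (A.map f - w • 1).rank = m + m - 1) (hm : 1 ≤ m) :
    ∀ z : F, A ≠ z • 1 := by
  intro z hz
  rw [hz] at hw
  have e1 : (z • (1 : Ms)).map f - w • 1 = (f z - w) • (1 : Matrix (Fin m ⊕ Fin m) (Fin m ⊕ Fin m) E) := by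
    ext i j
    by_cases hij : i = j <;> simp [hij]
  rw [e1] at hw
  by_cases hc : f z - w = 0
  · rw [hc, zero_smul, Matrix.rank_zero] at hw
    omega
  · rw [Matrix.rank_of_isUnit _ (by
      rw [Matrix.isUnit_iff_isUnit_det, Matrix.det_smul, Matrix.det_one, mul_one]
      exact (isUnit_iff_ne_zero.2 hc).pow _), Fintype.card_sum, Fintype.card_fin] at hw
    omega

/-- Invertible matrices from symplectic equations. -/
theorem sq_scalar_cases [Nonempty (Fin m ⊕ Fin m)] {x : GL (Fin m ⊕ Fin m) F} (hx : x ∈ Cfsg.spGL m F) {z : F}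
    (hz : ((x ^ 2 : GL (Fin m ⊕ Fin m) F) : Matrix (Fin m ⊕ Fin m) (Fin m ⊕ Fin m) F) = z • 1) :
    z = 1 ∨ z = -1 := by
  obtain ⟨a⟩ := ‹Nonempty (Fin m ⊕ Fin m)›
  have hv : (Pi.single a 1 : Vs) ≠ 0 := by simp
  obtain ⟨u, hu⟩ := SympMax.exists_form_ne hv
  have h := form_spGL (pow_mem hx 2) (Pi.single a 1) u
  rw [hz, smul_mulVec, smul_mulVec, one_mulVec, one_mulVec, SympMax.form_smul_left,
    SympMax.form_smul_right, ← mul_assoc] at h
  exact mul_self_eq_one_iff.1 ((mul_eq_right₀ hu).1 h)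

/-- A symplectic square root of `-1` is anti-adjoint. -/
theorem anti_of_sq {A : Matrix (Fin m ⊕ Fin m) (Fin m ⊕ Fin m) F}
    (hA : ∀ u v, Cfsg.sympForm m F (A *ᵥ u) (A *ᵥ v) = Cfsg.sympForm m F u v) (hAA : A * A = (-1 : F) • 1)
    (u v : Fin m ⊕ Fin m → F) : Cfsg.sympForm m F (A *ᵥ u) v = -Cfsg.sympForm m F u (A *ᵥ v) := by
  have e : v = A *ᵥ ((-1 : F) • (A *ᵥ v)) := by
    rw [mulVec_smul, mulVec_mulVec, hAA, smul_mulVec, one_mulVec, smul_smul]
    simp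
  conv_lhs => rw [e, hA, SympMax.form_smul_right]
  ring

/-- The two descriptions of the symplectic group have the same order. -/
theorem natCard_spGL_symp :
    Nat.card (Cfsg.spGL m F) = Nat.card (Matrix.symplecticGroup (Fin m) F) :=
  Nat.card_congr
    { toFun := fun x => ⟨x.1.1, (SpTensorDerange.mem_spGL_iff_mem x.1).1 x.2⟩
      invFun := fun X => ⟨SpTensorDerange.spUnit X.2, SpTensorDerange.spUnit_mem X.2⟩
      left_inv := fun _ => Subtype.ext (Units.ext rfl)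
      right_inv := fun _ => Subtype.ext rfl }

/-- Transport along a conjugation. -/
theorem conj_eq {ι : Type} [Fintype ι] [DecidableEq ι] (g : GL ι F) {A B : Matrix ι ι F}
    (h : A * (g : Matrix ι ι F) = (g : Matrix ι ι F) * B) :
    ((g⁻¹ : GL ι F) : Matrix ι ι F) * A * (g : Matrix ι ι F) = B := by
  rw [mul_assoc, h, ← mul_assoc, ← Units.val_mul, inv_mul_cancel, Units.val_one, one_mul]

/-- Fixed spaces of conjugate matrices. -/
theorem finrank_fixSp_moved {ι : Type} [Fintype ι] [DecidableEq ι] (g : GL ι F) {A Y : Matrix ι ι F}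
    (h : Y = ((g⁻¹ : GL ι F) : Matrix ι ι F) * A * (g : Matrix ι ι F)) :
    Module.finrank F (fixSp Y) = Module.finrank F (fixSp A) := by
  have h1 := finrank_fixSp_add_rank Y
  have h2 := finrank_fixSp_add_rank A
  have e : Y - 1 = ((g⁻¹ : GL ι F) : Matrix ι ι F) * (A - 1) * (g : Matrix ι ι F) := by
    rw [mul_sub, sub_mul, mul_one, ← h, ← Units.val_mul, inv_mul_cancel, Units.val_one]
  rw [e, rank_mul_eq_left_of_isUnit_det _ _ ((isUnit_iff_isUnit_det _).1 g.isUnit),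
    rank_mul_eq_right_of_isUnit_det _ _ ((isUnit_iff_isUnit_det _).1 (g⁻¹).isUnit)] at h1
  omega

end Cfsg.Agent.Lib.SpExtDerange
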